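import Cfsg.Agent.Lib.Fusion.NormalRankTwo
import Cfsg.Agent.Lib.Involution.MovedVector
import Cfsg.Agent.Lib.OddOrder.RankTwo
import Cfsg.Agent.Lib.OddOrder.Final.Main

/-!
# A non-abelian odd p-group with an involution whose centralised elements have cyclic inverted part

`P ≤ D` a non-abelian `p`-group, `D` of odd order normalising `P`, `u` an involution on `P` inverting
every abelian `D`-invariant `u`-invariant subgroup of `D`, such that the inverted elements commuting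
with a non-trivial fixed element lie in a cyclic group.  Then the inverted elements of `P` commute,
`P` has a non-cyclic pair of inverted elements of order `p`, and `p'`-elements of `⁅D, D⁆` centralise `P`.
-/

set_option autoImplicit false
set_option linter.style.haveILetI false

namespace CfsgLib.LocalEven.BenderSplit.PInverted

open Subgroup
open scoped commutatorElement

universe v

variable {G : Type v} [Group G]

/-- `u` inverts `x`. -/
def Iv (u x : G) : Prop := u * x * u⁻¹ = x⁻¹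

/-- The hypotheses on `D`, `P`, `u`, `p`. -/
structure Hyp (D P : Subgroup G) (u : G) (p : ℕ) : Prop where
  le : P ≤ D
  odd : Odd (Nat.card D)
  isP : IsPGroup p P
  norm : ∀ d ∈ D, ∀ y ∈ P, d * y * d⁻¹ ∈ P
  normu : ∀ y ∈ P, u * y * u⁻¹ ∈ P
  uu : u * u = 1
  a3 : ∀ A : Subgroup G, A ≤ D → (∀ x ∈ A, ∀ y ∈ A, Commute x y) →
    (∀ d ∈ D, ∀ y ∈ A, d * y * d⁻¹ ∈ A) → (∀ y ∈ A, u * y * u⁻¹ ∈ A) → ∀ k ∈ A, Iv u k
  cyc : ∀ z ∈ P, z ≠ 1 → Commute u z →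
    ∃ k₀ : G, ∀ k ∈ P, Iv u k → Commute k z → k ∈ zpowers k₀
  nab : ∃ x ∈ P, ∃ y ∈ P, ¬ Commute x y

/-! ### Generalities -/

theorem br_left {x₁ x₂ y : G} (h1 : Commute ⁅x₂, y⁆ x₁) (h2 : Commute ⁅x₂, y⁆ ⁅x₁, y⁆) :
    ⁅x₁ * x₂, y⁆ = ⁅x₁, y⁆ * ⁅x₂, y⁆ := by
  rw [← h2.eq]
  calc ⁅x₁ * x₂, y⁆ = x₁ * ⁅x₂, y⁆ * x₁⁻¹ * ⁅x₁, y⁆ := by simp only [commutatorElement_def]; group
    _ = ⁅x₂, y⁆ * ⁅x₁, y⁆ := by rw [← h1.eq, mul_inv_cancel_right]

theorem zpow_left {x y : G} (h : Commute x ⁅x, y⁆) (n : ℤ) : ⁅x ^ n, y⁆ = ⁅x, y⁆ ^ n := by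
  have h1 : y * x * y⁻¹ = ⁅x, y⁆⁻¹ * x := by simp only [commutatorElement_def]; group
  have h2 : y * x ^ n * y⁻¹ = (⁅x, y⁆ ^ n)⁻¹ * x ^ n := by
    rw [← conj_zpow, h1, (h.symm.inv_left).mul_zpow, inv_zpow]
  calc ⁅x ^ n, y⁆ = x ^ n * (y * x ^ n * y⁻¹)⁻¹ := by simp only [commutatorElement_def]; group
    _ = ⁅x, y⁆ ^ n := by rw [h2]; group

theorem eq_one_of_dvd {p : ℕ} {x : G} (hx : ∃ k : ℕ, x ^ p ^ k = 1) {n : ℕ} (hn : n.Coprime p)
    (h : x ^ n = 1) : x = 1 := by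
  obtain ⟨k, hk⟩ := hx
  exact orderOf_eq_one_iff.1 (Nat.eq_one_of_dvd_coprimes (hn.pow_right k)
    (orderOf_dvd_of_pow_eq_one h) (orderOf_dvd_of_pow_eq_one hk))

/-- A coprime element fixing `x` modulo `δ` and fixing `δ` fixes `x`. -/
theorem stab {p : ℕ} {w x δ : G} (hw : (orderOf w).Coprime p) (h : w * x * w⁻¹ = x * δ)
    (hd : Commute w δ) (hp : ∃ k : ℕ, δ ^ p ^ k = 1) : δ = 1 := by
  have key : ∀ n : ℕ, w ^ n * x * (w ^ n)⁻¹ = x * δ ^ n := by
    intro n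
    induction n with
    | zero => simp
    | succ n ih =>
      calc w ^ (n + 1) * x * (w ^ (n + 1))⁻¹ = w * (w ^ n * x * (w ^ n)⁻¹) * w⁻¹ := by
            rw [pow_succ']; group
        _ = (w * x * w⁻¹) * (w * δ ^ n * w⁻¹) := by rw [ih]; group
        _ = x * δ ^ (n + 1) := by
            rw [h, (hd.pow_right n).eq, mul_inv_cancel_right, pow_succ', mul_assoc]
  have := key (orderOf w)
  rw [pow_orderOf_eq_one] at this
  exact eq_one_of_dvd hp hw (mul_left_cancel (a := x) (by simpa using this.symm))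

theorem commute_of_conj_eq {a b q : G} (h : a * q * a⁻¹ = b * q * b⁻¹) : Commute (b⁻¹ * a) q := by
  show b⁻¹ * a * q = q * (b⁻¹ * a)
  calc b⁻¹ * a * q = b⁻¹ * (a * q * a⁻¹) * a := by group
    _ = q * (b⁻¹ * a) := by rw [h]; group

/-- The derived group centralises a normalised cyclic group. -/
theorem commute_of_cyclic {D : Subgroup G} {q : G} (hq : ∀ d ∈ D, d * q * d⁻¹ ∈ zpowers q)
    {w : G} (hw : w ∈ ⁅D, D⁆) : Commute w q := by
  have hle : ⁅D, D⁆ ≤ centralizer ({q} : Set G) := by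
    rw [commutator_le]
    intro g hg h hh
    obtain ⟨i, hi⟩ := mem_zpowers_iff.1 (hq g⁻¹ (inv_mem hg))
    obtain ⟨j, hj⟩ := mem_zpowers_iff.1 (hq h⁻¹ (inv_mem hh))
    rw [mem_centralizer_singleton_iff]
    have h1 : (g⁻¹ * h⁻¹) * q * (g⁻¹ * h⁻¹)⁻¹ = (h⁻¹ * g⁻¹) * q * (h⁻¹ * g⁻¹)⁻¹ := by
      calc (g⁻¹ * h⁻¹) * q * (g⁻¹ * h⁻¹)⁻¹ = g⁻¹ * (h⁻¹ * q * h⁻¹⁻¹) * g⁻¹⁻¹ := by group
        _ = q ^ (i * j) := by rw [← hj, ← conj_zpow, ← hi, ← zpow_mul]
        _ = h⁻¹ * (g⁻¹ * q * g⁻¹⁻¹) * h⁻¹⁻¹ := by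
          rw [← hi, ← conj_zpow, ← hj, ← zpow_mul, mul_comm]
        _ = (h⁻¹ * g⁻¹) * q * (h⁻¹ * g⁻¹)⁻¹ := by group
    have h2 := commute_of_conj_eq h1
    rw [show (h⁻¹ * g⁻¹)⁻¹ * (g⁻¹ * h⁻¹) = ⁅g, h⁆ by simp only [commutatorElement_def]; group] at h2
    exact h2.eq
  exact mem_centralizer_singleton_iff.1 (hle hw)

theorem zpow_eq_one_or_gen {p : ℕ} [Fact p.Prime] [Finite G] {k a b : G} (ha : a ∈ zpowers k)
    (hb : b ∈ zpowers k) (hap : a ^ p = 1) (hbp : b ^ p = 1) (ha1 : a ≠ 1) : b ∈ zpowers a := by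
  classical
  haveI : Fintype (zpowers k) := Fintype.ofFinite _
  set a' : zpowers k := ⟨a, ha⟩ with ha'
  set b' : zpowers k := ⟨b, hb⟩ with hb'
  have hoa : orderOf a' = p := by
    rw [← orderOf_coe]
    exact orderOf_eq_prime hap ha1
  set s := (Finset.univ : Finset (zpowers k)).filter fun x => x ∈ zpowers a' with hs
  set t := (Finset.univ : Finset (zpowers k)).filter fun x => x ^ p = 1 with ht
  have hst : s ⊆ t := by
    intro x hx
    simp only [hs, ht, Finset.mem_filter, Finset.mem_univ, true_and] at hx ⊢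
    obtain ⟨i, rfl⟩ := mem_zpowers_iff.1 hx
    rw [← zpow_natCast, zpow_comm, zpow_natCast, ← hoa, pow_orderOf_eq_one, one_zpow]
  have hcs : s.card = p := by
    rw [hs, ← Fintype.card_subtype, ← Nat.card_eq_fintype_card]
    exact (Nat.card_zpowers a').trans hoa
  have heq : s = t := Finset.eq_of_subset_of_card_le hst
    (hcs ▸ IsCyclic.card_pow_eq_one_le (Fact.out : p.Prime).pos)
  have hbt : b' ∈ t := by
    simp only [ht, Finset.mem_filter, Finset.mem_univ, true_and]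
    exact Subtype.ext (by simpa [hb'] using hbp)
  rw [← heq, hs, Finset.mem_filter] at hbt
  obtain ⟨i, hi⟩ := mem_zpowers_iff.1 hbt.2
  exact ⟨i, by simpa [ha', hb'] using congrArg Subtype.val hi⟩

/-! ### The derived group on small quotients -/

theorem conj_iff {D A : Subgroup G} (h : ∀ d ∈ D, ∀ a ∈ A, d * a * d⁻¹ ∈ A) {d : G} (hd : d ∈ D)
    {a : G} : d⁻¹ * a * d ∈ A ↔ a ∈ A := by
  refine ⟨fun ha => ?_, fun ha => ?_⟩
  · have := h d hd _ ha
    rwa [show d * (d⁻¹ * a * d) * d⁻¹ = a by group] at this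
  · have := h d⁻¹ (inv_mem hd) a ha
    rwa [inv_inv] at this

/-- A coprime element of the derived group of a group of odd order fixes a quotient of order `p` or `p²`. -/
theorem fix_quot [Finite G] {p : ℕ} [Fact p.Prime] {D A B : Subgroup G} (hodd : Odd (Nat.card D))
    (_hBA : B ≤ A) (hA : ∀ d ∈ D, ∀ a ∈ A, d * a * d⁻¹ ∈ A) (hB : ∀ d ∈ D, ∀ a ∈ B, d * a * d⁻¹ ∈ B)
    (hab : ∀ x ∈ A, ∀ y ∈ A, ⁅x, y⁆ ∈ B) (hexp : ∀ x ∈ A, x ^ p ∈ B)
    (hcard : B.relIndex A = p ∨ B.relIndex A = p ^ 2) {w : G} (hw : w ∈ ⁅D, D⁆)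
    (hcop : (orderOf w).Coprime p) {x : G} (hx : x ∈ A) : x⁻¹ * (w * x * w⁻¹) ∈ B := by
  haveI hN : (B.subgroupOf A).Normal := ⟨fun n hn g => by
    rw [mem_subgroupOf] at hn ⊢
    have := mul_mem (hab g g.2 n n.2) hn
    simpa [commutatorElement_def, mul_assoc] using this⟩
  let N := B.subgroupOf A
  letI : CommGroup (A ⧸ N) :=
    { (inferInstance : Group (A ⧸ N)) with
      mul_comm := fun a b => by
        induction a using QuotientGroup.induction_on with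
        | _ a =>
          induction b using QuotientGroup.induction_on with
          | _ b =>
            rw [← QuotientGroup.mk_mul, ← QuotientGroup.mk_mul, QuotientGroup.eq]
            show ((a * b)⁻¹ * (b * a) : A) ∈ N
            rw [show (a * b)⁻¹ * (b * a) = ⁅b⁻¹, a⁻¹⁆ by simp only [commutatorElement_def]; group]
            exact mem_subgroupOf.2 (hab _ (inv_mem b.2) _ (inv_mem a.2)) }
  let e : D → (A ≃* A) := fun d =>
    { toFun := fun a => ⟨d * a * (d : G)⁻¹, hA d d.2 a a.2⟩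
      invFun := fun a => ⟨(d : G)⁻¹ * a * d, (conj_iff hA d.2).2 a.2⟩
      left_inv := fun a => Subtype.ext (by simp [mul_assoc])
      right_inv := fun a => Subtype.ext (by simp [mul_assoc])
      map_mul' := fun a b => Subtype.ext (by simp [mul_assoc]) }
  have he : ∀ d : D, N.map (e d).toMonoidHom = N := fun d => by
    ext a
    rw [Subgroup.mem_map]
    refine ⟨?_, fun ha => ⟨(e d).symm a, ?_, (e d).apply_symm_apply a⟩⟩
    · rintro ⟨b, hb, rfl⟩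
      exact mem_subgroupOf.2 (hB d d.2 _ (mem_subgroupOf.1 hb))
    · exact mem_subgroupOf.2 ((conj_iff hB d.2).2 (mem_subgroupOf.1 ha))
  let ρ : D →* MulAut (A ⧸ N) :=
    { toFun := fun d => QuotientGroup.congr N N (e d) (he d)
      map_one' := by
        ext a
        induction a using QuotientGroup.induction_on with
        | _ a =>
          show QuotientGroup.mk (e 1 a) = QuotientGroup.mk a
          exact congrArg _ (Subtype.ext (by simp [e]))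
      map_mul' := fun d d' => by
        ext a
        induction a using QuotientGroup.induction_on with
        | _ a =>
          show QuotientGroup.mk (e (d * d') a) = QuotientGroup.mk (e d (e d' a))
          exact congrArg _ (Subtype.ext (by simp [e, mul_assoc])) }
  haveI : Group.IsSolvable D := OddOrder.Final.oddSolvable D hodd
  have hQexp : ∀ a : A ⧸ N, a ^ p = 1 := fun a => by
    induction a using QuotientGroup.induction_on with
    | _ a =>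
      rw [← QuotientGroup.mk_pow, QuotientGroup.eq_one_iff, mem_subgroupOf]
      exact hexp a a.2
  rw [← map_subtype_commutator] at hw
  obtain ⟨w', hw', rfl⟩ := Subgroup.mem_map.1 hw
  obtain ⟨k, hk⟩ := OddOrder.RankTwo.exists_pow_trivial hodd hQexp hcard ρ hw'
  have hcop' : (orderOf w').Coprime p := by rwa [← orderOf_coe]
  obtain ⟨m, hm⟩ := exists_pow_eq_self_of_coprime (x := w') (n := p ^ k) (hcop'.pow_right k).symm
  have h1 : ρ w' = 1 := by rw [← hm, map_pow, hk, one_pow]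
  have h2 := DFunLike.congr_fun h1 (QuotientGroup.mk ⟨x, hx⟩ : A ⧸ N)
  have h3 : (⟨x, hx⟩ : A)⁻¹ * e w' ⟨x, hx⟩ ∈ N := QuotientGroup.eq.1 h2.symm
  exact mem_subgroupOf.1 h3

/-! ### Basic consequences -/

variable {D P : Subgroup G} {u : G} {p : ℕ}

theorem Hyp.u_inv (h : Hyp D P u p) : u⁻¹ = u := inv_eq_of_mul_eq_one_right h.uu

theorem Hyp.conj_conj (h : Hyp D P u p) (x : G) : u * (u * x * u⁻¹) * u⁻¹ = x := by
  rw [h.u_inv, show u * (u * x * u) * u = (u * u) * x * (u * u) by group, h.uu, one_mul, mul_one]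

theorem Hyp.p_ne_two [Finite G] (h : Hyp D P u p) [Fact p.Prime] : p ≠ 2 := by
  rintro rfl
  obtain ⟨x, hx, y, hy, hxy⟩ := h.nab
  obtain ⟨n, hn⟩ := IsPGroup.iff_card.1 h.isP
  rcases Nat.eq_zero_or_pos n with rfl | hpos
  · rw [pow_zero, card_eq_one] at hn
    rw [hn, mem_bot] at hx
    exact hxy (hx ▸ Commute.one_left y)
  · have := h.odd.of_dvd_nat ((hn ▸ dvd_pow_self 2 hpos.ne' : 2 ∣ Nat.card P).trans (card_dvd_of_le h.le))
    exact Nat.not_even_iff_odd.2 this even_two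

theorem Hyp.pow_one [Finite G] (h : Hyp D P u p) {y : G} (hy : y ∈ P) : ∃ k : ℕ, y ^ p ^ k = 1 := by
  obtain ⟨k, hk⟩ := h.isP ⟨y, hy⟩
  exact ⟨k, congrArg Subtype.val hk⟩

theorem Hyp.eq_one_sq [Finite G] (h : Hyp D P u p) {y : G} (hy : y ∈ P) (h2 : y * y = 1) : y = 1 := by
  have h1 : orderOf y ∣ Nat.card D := by
    have := orderOf_dvd_natCard (⟨y, h.le hy⟩ : D)
    rwa [← orderOf_coe] at this
  exact orderOf_eq_one_iff.1 (Nat.eq_one_of_dvd_coprimes (Nat.coprime_two_left.2 h.odd)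
    (orderOf_dvd_of_pow_eq_one (by rwa [pow_two])) h1)

theorem Hyp.eq_one_both [Finite G] (h : Hyp D P u p) {y : G} (hy : y ∈ P) (hi : Iv u y)
    (hc : Commute u y) : y = 1 := by
  refine h.eq_one_sq hy ?_
  have : y = y⁻¹ := by
    rw [← hi, hc.eq, mul_inv_cancel_right]
  nth_rewrite 1 [this]
  exact inv_mul_cancel y

theorem iv_zpow {x : G} (hx : Iv u x) (n : ℤ) : Iv u (x ^ n) := by
  unfold Iv at hx ⊢
  rw [← conj_zpow, hx, inv_zpow]

theorem iv_mul {x y : G} (hx : Iv u x) (hy : Iv u y) (hc : Commute x y) : Iv u (x * y) := by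
  unfold Iv at hx hy ⊢
  rw [show u * (x * y) * u⁻¹ = (u * x * u⁻¹) * (u * y * u⁻¹) by group, hx, hy, mul_inv_rev,
    (hc.inv_inv).eq]

theorem Hyp.all_inv [Finite G] (h : Hyp D P u p) {A : Subgroup G} (_hA : A ≤ P)
    (hu : ∀ y ∈ A, u * y * u⁻¹ ∈ A) (hfix : ∀ y ∈ A, Commute u y → y = 1) : ∀ y ∈ A, Iv u y := by
  let f : A → A := fun a => ⟨(a : G)⁻¹ * (u * a * u⁻¹), mul_mem (inv_mem a.2) (hu a a.2)⟩
  have hinj : Function.Injective f := fun a b hab => by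
    have e : (a : G)⁻¹ * (u * a * u⁻¹) = (b : G)⁻¹ * (u * b * u⁻¹) := congrArg Subtype.val hab
    have e' : u * ((b : G) * (a : G)⁻¹) * u⁻¹ = (b : G) * (a : G)⁻¹ := by
      calc u * ((b : G) * (a : G)⁻¹) * u⁻¹
          = b * ((b : G)⁻¹ * (u * b * u⁻¹)) * (u * a * u⁻¹)⁻¹ := by group
        _ = (b : G) * (a : G)⁻¹ := by rw [← e]; group
    have hc : Commute u ((b : G) * (a : G)⁻¹) := mul_inv_eq_iff_eq_mul.1 e'
    exact Subtype.ext (mul_inv_eq_one.1 (hfix _ (mul_mem b.2 (inv_mem a.2)) hc)).symm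
  intro y hy
  obtain ⟨a, ha⟩ := (Finite.injective_iff_surjective.1 hinj) ⟨y, hy⟩
  have e : y = (a : G)⁻¹ * (u * a * u⁻¹) := (congrArg Subtype.val ha).symm
  show u * y * u⁻¹ = y⁻¹
  calc u * y * u⁻¹ = (u * a * u⁻¹)⁻¹ * (u * (u * a * u⁻¹) * u⁻¹) := by rw [e]; group
    _ = y⁻¹ := by rw [h.conj_conj, e]; group

theorem comm_of_all_inv {A : Subgroup G} (hA : ∀ y ∈ A, Iv u y) {x y : G} (hx : x ∈ A) (hy : y ∈ A) :
    Commute x y := by
  have h1 : u * (x * y) * u⁻¹ = (x * y)⁻¹ := hA _ (mul_mem hx hy)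
  rw [show u * (x * y) * u⁻¹ = (u * x * u⁻¹) * (u * y * u⁻¹) by group, hA x hx, hA y hy] at h1
  have h2 := congrArg (·⁻¹) h1
  simp only [mul_inv_rev, inv_inv] at h2
  exact h2.symm

/-- An element of order `p` commuting with `u`. -/
theorem Hyp.exists_fixed [Finite G] [Fact p.Prime] (h : Hyp D P u p) :
    ∃ g ∈ P, g ≠ 1 ∧ Commute u g ∧ g ^ p = 1 := by
  by_contra hcon
  push Not at hcon
  obtain ⟨x, hx, y, hy, hxy⟩ := h.nab
  refine hxy (comm_of_all_inv (h.all_inv le_rfl h.normu fun z hz hzu => ?_) hx hy)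
  by_contra hz1
  obtain ⟨k, hk⟩ := h.pow_one hz
  obtain ⟨l, -, hl⟩ := (Nat.dvd_prime_pow Fact.out).1 (orderOf_dvd_of_pow_eq_one hk)
  rcases l with _ | l
  · exact hz1 (orderOf_eq_one_iff.1 (by rwa [pow_zero] at hl))
  refine hcon (z ^ p ^ l) (pow_mem hz _) ?_ (hzu.pow_right _) ?_
  · intro he
    have h1 := orderOf_dvd_of_pow_eq_one he
    rw [hl, Nat.pow_dvd_pow_iff_le_right (Fact.out : p.Prime).one_lt] at h1
    omega
  · rw [← pow_mul, ← pow_succ, ← hl, pow_orderOf_eq_one]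

/-- Inverted elements of order `p` commuting with a fixed element are powers of one another. -/
theorem Hyp.mem_zpowers_of [Finite G] [Fact p.Prime] (h : Hyp D P u p) {g x y : G} (hg : g ∈ P)
    (hg1 : g ≠ 1) (hgu : Commute u g) (hx : x ∈ P) (hxi : Iv u x) (hxp : x ^ p = 1)
    (hxg : Commute x g) (hy : y ∈ P) (hyi : Iv u y) (hyp : y ^ p = 1) (hyg : Commute y g)
    (hx1 : x ≠ 1) : y ∈ zpowers x := by
  obtain ⟨k₀, hk⟩ := h.cyc g hg hg1 hgu
  exact zpow_eq_one_or_gen (hk x hx hxi hxg) (hk y hy hyi hyg) hxp hyp hx1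

/-- `z` generates the elements of order `p` in the centre. -/
structure Cent (D P : Subgroup G) (u : G) (p : ℕ) (z : G) : Prop where
  mem : z ∈ P
  pow : z ^ p = 1
  ne : z ≠ 1
  inv : Iv u z
  central : ∀ y ∈ P, Commute y z
  max : ∀ x ∈ P, x ^ p = 1 → (∀ y ∈ P, Commute y x) → x ∈ zpowers z
  normD : ∀ d ∈ D, d * z * d⁻¹ ∈ zpowers z

theorem conj_central {d : G} (hP : ∀ y ∈ P, d⁻¹ * y * d ∈ P) {x : G}
    (hx : ∀ y ∈ P, Commute y x) {y : G} (hy : y ∈ P) : Commute y (d * x * d⁻¹) := by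
  show y * (d * x * d⁻¹) = d * x * d⁻¹ * y
  calc y * (d * x * d⁻¹) = d * ((d⁻¹ * y * d) * x) * d⁻¹ := by group
    _ = d * x * d⁻¹ * y := by rw [(hx _ (hP y hy)).eq]; group

theorem Hyp.exists_cent [Finite G] [Fact p.Prime] (h : Hyp D P u p) : ∃ z, Cent D P u p z := by
  let Z : Subgroup G :=
    { carrier := {x | x ∈ P ∧ x ^ p = 1 ∧ ∀ y ∈ P, Commute y x}
      one_mem' := ⟨one_mem _, one_pow _, fun y _ => Commute.one_right y⟩
      mul_mem' := fun {a b} ha hb => ⟨mul_mem ha.1 hb.1,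
        by rw [(hb.2.2 a ha.1).mul_pow, ha.2.1, hb.2.1, one_mul],
        fun y hy => (ha.2.2 y hy).mul_right (hb.2.2 y hy)⟩
      inv_mem' := fun {a} ha => ⟨inv_mem ha.1, by rw [inv_pow, ha.2.1, inv_one],
        fun y hy => (ha.2.2 y hy).inv_right⟩ }
  have hZD : ∀ d ∈ D, ∀ x ∈ Z, d * x * d⁻¹ ∈ Z := fun d hd x hx =>
    ⟨h.norm d hd x hx.1, by rw [conj_pow, hx.2.1, mul_one, mul_inv_cancel],
      fun y hy => conj_central (fun y hy => (conj_iff h.norm hd).2 hy) hx.2.2 hy⟩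
  have hZu : ∀ x ∈ Z, u * x * u⁻¹ ∈ Z := fun x hx =>
    ⟨h.normu x hx.1, by rw [conj_pow, hx.2.1, mul_one, mul_inv_cancel],
      fun y hy => conj_central (fun y hy => by
        have := h.normu y hy
        rw [h.u_inv] at this ⊢
        exact this) hx.2.2 hy⟩
  have hZi : ∀ x ∈ Z, Iv u x := h.a3 Z (fun x hx => h.le hx.1) (fun x hx y hy => hy.2.2 x hx.1) hZD hZu
  obtain ⟨a, ha, b, hb, hab⟩ := h.nab
  haveI : Nontrivial P := ⟨⟨⟨a, ha⟩, 1, fun e =>
    hab (by rw [show a = 1 from congrArg Subtype.val e]; exact Commute.one_left b)⟩⟩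
  haveI := h.isP.center_nontrivial
  obtain ⟨n, hn, hc⟩ := (h.isP.to_subgroup (center P)).nontrivial_iff_card.1 inferInstance
  obtain ⟨c, hco⟩ := exists_prime_orderOf_dvd_card' (G := center P) p
    (by rw [hc]; exact dvd_pow_self p hn.ne')
  rw [← orderOf_coe, ← orderOf_coe] at hco
  set z : G := ((c : P) : G) with hz
  have hz1 : z ≠ 1 := fun e => (Fact.out : p.Prime).ne_one (by rw [← hco, e, orderOf_one])
  have hzZ : z ∈ Z := ⟨(c : P).2, by rw [← hco, pow_orderOf_eq_one], fun y hy =>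
    congrArg Subtype.val (mem_center_iff.1 c.2 ⟨y, hy⟩)⟩
  obtain ⟨g, hg, hg1, hgu, -⟩ := h.exists_fixed
  have hmax : ∀ x ∈ Z, x ∈ zpowers z := fun x hx =>
    h.mem_zpowers_of hg hg1 hgu hzZ.1 (hZi z hzZ) hzZ.2.1 (hzZ.2.2 g hg).symm hx.1 (hZi x hx) hx.2.1
      (hx.2.2 g hg).symm hz1
  exact ⟨z, hzZ.1, hzZ.2.1, hz1, hZi z hzZ, hzZ.2.2, fun x hx hxp hxc => hmax x ⟨hx, hxp, hxc⟩,
    fun d hd => hmax _ (hZD d hd z hzZ)⟩

/-! ### The elements of order `p` central modulo `zpowers z` -/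

variable {z : G}

theorem Cent.comm (hz : Cent D P u p z) {c y : G} (hc : c ∈ zpowers z) (hy : y ∈ P) : Commute c y := by
  obtain ⟨n, rfl⟩ := mem_zpowers_iff.1 hc
  exact ((hz.central y hy).symm).zpow_left n

theorem Cent.pow_eq (hz : Cent D P u p z) {c : G} (hc : c ∈ zpowers z) : c ^ p = 1 := by
  obtain ⟨n, rfl⟩ := mem_zpowers_iff.1 hc
  rw [← zpow_natCast, zpow_comm, zpow_natCast, hz.pow, one_zpow]

theorem Cent.zle (hz : Cent D P u p z) : zpowers z ≤ P := zpowers_le.2 hz.mem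

theorem Cent.iv (hz : Cent D P u p z) {c : G} (hc : c ∈ zpowers z) : Iv u c := by
  obtain ⟨n, rfl⟩ := mem_zpowers_iff.1 hc
  exact iv_zpow hz.inv n

theorem Cent.conjD (hz : Cent D P u p z) : ∀ d ∈ D, ∀ c ∈ zpowers z, d * c * d⁻¹ ∈ zpowers z := by
  intro d hd c hc
  obtain ⟨n, rfl⟩ := mem_zpowers_iff.1 hc
  rw [← conj_zpow]
  exact zpow_mem (hz.normD d hd) n

theorem Cent.bl (hz : Cent D P u p z) {x₁ x₂ y : G} (hx₁ : x₁ ∈ P) (h1 : ⁅x₁, y⁆ ∈ zpowers z)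
    (h2 : ⁅x₂, y⁆ ∈ zpowers z) : ⁅x₁ * x₂, y⁆ = ⁅x₁, y⁆ * ⁅x₂, y⁆ :=
  br_left (hz.comm h2 hx₁) (hz.comm h2 (hz.zle h1))

theorem Cent.br (hz : Cent D P u p z) {x y₁ y₂ : G} (hy₁ : y₁ ∈ P) (h2 : ⁅x, y₂⁆ ∈ zpowers z) :
    ⁅x, y₁ * y₂⁆ = ⁅x, y₁⁆ * ⁅x, y₂⁆ := by
  calc ⁅x, y₁ * y₂⁆ = ⁅x, y₁⁆ * (y₁ * ⁅x, y₂⁆ * y₁⁻¹) := by simp only [commutatorElement_def]; group
    _ = ⁅x, y₁⁆ * ⁅x, y₂⁆ := by rw [← (hz.comm h2 hy₁).eq, mul_inv_cancel_right]

theorem Cent.zl (hz : Cent D P u p z) {x y : G} (hx : x ∈ P) (h : ⁅x, y⁆ ∈ zpowers z) (n : ℤ) :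
    ⁅x ^ n, y⁆ = ⁅x, y⁆ ^ n := zpow_left (hz.comm h hx).symm n

theorem Cent.zr (hz : Cent D P u p z) {x y : G} (hy : y ∈ P) (h : ⁅x, y⁆ ∈ zpowers z) (n : ℤ) :
    ⁅x, y ^ n⁆ = ⁅x, y⁆ ^ n := by
  have h' : ⁅y, x⁆ ∈ zpowers z := by rw [← commutatorElement_inv x y]; exact inv_mem h
  rw [← commutatorElement_inv (y ^ n) x, hz.zl hy h' n, ← commutatorElement_inv x y, inv_zpow, inv_inv]

theorem Cent.inv_left (hz : Cent D P u p z) {x y : G} (hx : x ∈ P) (h : ⁅x, y⁆ ∈ zpowers z) :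
    ⁅x⁻¹, y⁆ = ⁅x, y⁆⁻¹ := by simpa using hz.zl hx h (-1)

theorem Cent.inv_right (hz : Cent D P u p z) {x y : G} (hy : y ∈ P) (h : ⁅x, y⁆ ∈ zpowers z) :
    ⁅x, y⁻¹⁆ = ⁅x, y⁆⁻¹ := by simpa using hz.zr hy h (-1)

/-- Two elements both fixed or both inverted commute when their commutator is in `zpowers z`. -/
theorem Cent.comm_same [Finite G] (h : Hyp D P u p) (hz : Cent D P u p z) {a b : G} (ha : a ∈ P)
    (hb : b ∈ P) (hc : ⁅a, b⁆ ∈ zpowers z)
    (hs : (Iv u a ∧ Iv u b) ∨ (Commute u a ∧ Commute u b)) : Commute a b := by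
  refine commutatorElement_eq_one_iff_commute.1 (h.eq_one_sq (hz.zle hc) ?_)
  have h1 : u * ⁅a, b⁆ * u⁻¹ = ⁅a, b⁆ := by
    rw [show u * ⁅a, b⁆ * u⁻¹ = ⁅u * a * u⁻¹, u * b * u⁻¹⁆ by simp only [commutatorElement_def]; group]
    rcases hs with ⟨ia, ib⟩ | ⟨ca, cb⟩
    · unfold Iv at ia ib
      have hc' : ⁅a, b⁻¹⁆ ∈ zpowers z := by rw [hz.inv_right hb hc]; exact inv_mem hc
      rw [ia, ib, hz.inv_left ha hc', hz.inv_right hb hc, inv_inv]
    · rw [ca.eq, cb.eq, mul_inv_cancel_right, mul_inv_cancel_right]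
  have h2 : ⁅a, b⁆ = ⁅a, b⁆⁻¹ := h1.symm.trans (hz.iv hc)
  nth_rewrite 1 [h2]
  exact inv_mul_cancel _

/-- Elements of order `p` central modulo `zpowers z`. -/
def ySub [Finite G] [Fact p.Prime] (h : Hyp D P u p) (hz : Cent D P u p z) : Subgroup G where
  carrier := {y | y ∈ P ∧ y ^ p = 1 ∧ ∀ x ∈ P, ⁅x, y⁆ ∈ zpowers z}
  one_mem' := ⟨one_mem _, one_pow _, fun x _ => by rw [commutatorElement_one_right]; exact one_mem _⟩
  inv_mem' := fun {y} hy => ⟨inv_mem hy.1, by rw [inv_pow, hy.2.1, inv_one],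
    fun x hx => by rw [hz.inv_right hy.1 (hy.2.2 x hx)]; exact inv_mem (hy.2.2 x hx)⟩
  mul_mem' := fun {a b} ha hb => by
    refine ⟨mul_mem ha.1 hb.1, ?_, fun x hx => ?_⟩
    · rw [Involution.MovedVector.mul_pow_of_comm (hz.comm (ha.2.2 b hb.1) ha.1)
        (hz.comm (ha.2.2 b hb.1) hb.1), ha.2.1, hb.2.1, one_mul, one_mul]
      obtain ⟨l, hl⟩ := (Fact.out : p.Prime).dvd_choose_self (k := 2) two_ne_zero
        (lt_of_le_of_ne (Fact.out : p.Prime).two_le (Ne.symm h.p_ne_two))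
      rw [hl, pow_mul, hz.pow_eq (ha.2.2 b hb.1), one_pow]
    · rw [hz.br ha.1 (hb.2.2 x hx)]
      exact mul_mem (ha.2.2 x hx) (hb.2.2 x hx)

section

variable [Finite G] [Fact p.Prime] (h : Hyp D P u p) (hz : Cent D P u p z)

theorem mem_ySub {y : G} :
    y ∈ ySub h hz ↔ y ∈ P ∧ y ^ p = 1 ∧ ∀ x ∈ P, ⁅x, y⁆ ∈ zpowers z := Iff.rfl

theorem ySub_le : ySub h hz ≤ P := fun _ hy => hy.1

theorem zpowers_le_ySub : zpowers z ≤ ySub h hz := fun c hc =>
  ⟨hz.zle hc, hz.pow_eq hc, fun x hx => by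
    rw [commutatorElement_eq_one_iff_commute.2 (hz.comm hc hx).symm]; exact one_mem _⟩

theorem ySub_normD : ∀ d ∈ D, ∀ y ∈ ySub h hz, d * y * d⁻¹ ∈ ySub h hz := fun d hd y hy =>
  ⟨h.norm d hd y hy.1, by rw [conj_pow, hy.2.1, mul_one, mul_inv_cancel], fun x hx => by
    rw [show ⁅x, d * y * d⁻¹⁆ = d * ⁅d⁻¹ * x * d, y⁆ * d⁻¹ by simp only [commutatorElement_def]; group]
    exact hz.conjD d hd _ (hy.2.2 _ ((conj_iff h.norm hd).2 hx))⟩

theorem ySub_normu : ∀ y ∈ ySub h hz, u * y * u⁻¹ ∈ ySub h hz := fun y hy =>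
  ⟨h.normu y hy.1, by rw [conj_pow, hy.2.1, mul_one, mul_inv_cancel], fun x hx => by
    have hx' := h.normu x hx
    have e : ⁅x, u * y * u⁻¹⁆ = u * ⁅u * x * u⁻¹, y⁆ * u⁻¹ := by
      calc ⁅x, u * y * u⁻¹⁆ = ⁅u * (u * x * u⁻¹) * u⁻¹, u * y * u⁻¹⁆ := by rw [h.conj_conj]
        _ = u * ⁅u * x * u⁻¹, y⁆ * u⁻¹ := by simp only [commutatorElement_def]; group
    rw [e]
    have := hz.iv (hy.2.2 _ hx')
    unfold Iv at this
    rw [this]
    exact inv_mem (hy.2.2 _ hx')⟩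

/-- `Y` is bigger than `zpowers z`. -/
theorem exists_ySub_not_mem : ∃ f ∈ ySub h hz, f ∉ zpowers z := by
  haveI hn : ((zpowers z).subgroupOf P).Normal := ⟨fun n hn g => by
    rw [mem_subgroupOf] at hn ⊢
    have e : ((g * n * g⁻¹ : P) : G) = n := by
      simp only [coe_mul, coe_inv]
      rw [(hz.comm hn g.2).symm.eq, mul_inv_cancel_right]
    rwa [e]⟩
  obtain ⟨a, ha, b, hb, hab⟩ := h.nab
  have hnc : ¬ IsCyclic (⊤ : Subgroup P) := fun hcyc => by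
    haveI : IsCyclic P := isCyclic_of_surjective topEquiv.toMonoidHom topEquiv.surjective
    obtain ⟨q, hq⟩ := IsCyclic.exists_generator (α := P)
    obtain ⟨i, hi⟩ := mem_zpowers_iff.1 (hq ⟨a, ha⟩)
    obtain ⟨j, hj⟩ := mem_zpowers_iff.1 (hq ⟨b, hb⟩)
    refine hab ?_
    have hc : Commute (⟨a, ha⟩ : P) ⟨b, hb⟩ := hi ▸ hj ▸ Commute.zpow_zpow_self q i j
    exact congrArg Subtype.val hc.eq
  obtain ⟨E, -, hEn, hE, hEc⟩ := Fusion.NormalRankTwo.exists_normal_rankTwo h.isP h.p_ne_two hnc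
  haveI := hEn
  have hlt : ¬ E ≤ (zpowers z).subgroupOf P := fun hle => by
    have h1 := card_le_of_le hle
    rw [hEc, Nat.card_congr (subgroupOfEquivOfLe hz.zle).toEquiv, Nat.card_zpowers,
      orderOf_eq_prime hz.pow hz.ne] at h1
    exact absurd h1 (not_le.2 (lt_self_pow₀ (Fact.out : p.Prime).one_lt one_lt_two))
  obtain ⟨f, hfE, hfz, -, hfc⟩ := Fusion.NormalRankTwo.exists_central_of_lt h.isP hlt
  exact ⟨f, ⟨f.2, congrArg Subtype.val (hE.2 f hfE), fun x hx =>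
    mem_subgroupOf.1 (hfc ⟨x, hx⟩)⟩, fun hf => hfz (mem_subgroupOf.2 hf)⟩

/-- An inverted element of `Y` commuting with a fixed element lies in `zpowers z`. -/
theorem mem_of_fixed {g y : G} (hg : g ∈ P) (hg1 : g ≠ 1) (hgu : Commute u g) (hy : y ∈ ySub h hz)
    (hyi : Iv u y) (hyg : Commute y g) : y ∈ zpowers z :=
  h.mem_zpowers_of hg hg1 hgu hz.mem hz.inv hz.pow (hz.central g hg).symm hy.1 hyi hy.2.1 hyg hz.ne

/-- Commutators and `p`-th powers of `P` centralise `Y`. -/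
theorem commute_commutator {x₁ x₂ y : G} (hx₁ : x₁ ∈ P) (hx₂ : x₂ ∈ P) (hy : y ∈ ySub h hz) :
    Commute ⁅x₁, x₂⁆ y := by
  have e : ⁅x₁⁻¹ * x₂⁻¹, y⁆ = ⁅x₂⁻¹ * x₁⁻¹, y⁆ := by
    rw [hz.bl (inv_mem hx₁) (hy.2.2 _ (inv_mem hx₁)) (hy.2.2 _ (inv_mem hx₂)),
      hz.bl (inv_mem hx₂) (hy.2.2 _ (inv_mem hx₂)) (hy.2.2 _ (inv_mem hx₁))]
    exact hz.comm (hy.2.2 _ (inv_mem hx₁)) (hz.zle (hy.2.2 _ (inv_mem hx₂)))
  have e' : (x₁⁻¹ * x₂⁻¹) * y * (x₁⁻¹ * x₂⁻¹)⁻¹ = (x₂⁻¹ * x₁⁻¹) * y * (x₂⁻¹ * x₁⁻¹)⁻¹ := by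
    simp only [commutatorElement_def] at e
    exact mul_right_cancel e
  have := commute_of_conj_eq e'
  rwa [show (x₂⁻¹ * x₁⁻¹)⁻¹ * (x₁⁻¹ * x₂⁻¹) = ⁅x₁, x₂⁆ by simp only [commutatorElement_def]; group]
    at this

theorem commute_pow {x y : G} (hx : x ∈ P) (hy : y ∈ ySub h hz) : Commute (x ^ p) y := by
  rw [← commutatorElement_eq_one_iff_commute, ← zpow_natCast, hz.zl hx (hy.2.2 x hx), zpow_natCast]
  exact hz.pow_eq (hy.2.2 x hx)

/-- The centraliser of `Y` in `P`. -/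
def cSub : Subgroup G := P ⊓ centralizer (ySub h hz : Set G)

theorem mem_cSub {x : G} : x ∈ cSub h hz ↔ x ∈ P ∧ ∀ y ∈ ySub h hz, Commute x y := by
  simp only [cSub, mem_inf, mem_centralizer_iff, SetLike.mem_coe]
  exact and_congr_right fun _ => ⟨fun hx y hy => (hx y hy).symm, fun hx y hy => (hx y hy).eq.symm⟩

theorem cSub_le : cSub h hz ≤ P := inf_le_left

theorem cSub_normD : ∀ d ∈ D, ∀ x ∈ cSub h hz, d * x * d⁻¹ ∈ cSub h hz := fun d hd x hx => by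
  rw [mem_cSub] at hx ⊢
  refine ⟨h.norm d hd x hx.1, fun y hy => ?_⟩
  have := hx.2 _ ((conj_iff (ySub_normD h hz) hd).2 hy)
  calc d * x * d⁻¹ * y = d * (x * (d⁻¹ * y * d)) * d⁻¹ := by group
    _ = y * (d * x * d⁻¹) := by rw [this.eq]; group

theorem cSub_normu : ∀ x ∈ cSub h hz, u * x * u⁻¹ ∈ cSub h hz := fun x hx => by
  rw [mem_cSub] at hx ⊢
  refine ⟨h.normu x hx.1, fun y hy => ?_⟩
  have := hx.2 _ (ySub_normu h hz y hy)
  calc u * x * u⁻¹ * y = u * x * u⁻¹ * (u * (u * y * u⁻¹) * u⁻¹) := by rw [h.conj_conj]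
    _ = u * (x * (u * y * u⁻¹)) * u⁻¹ := by group
    _ = u * ((u * y * u⁻¹) * x) * u⁻¹ := by rw [this.eq]
    _ = (u * (u * y * u⁻¹) * u⁻¹) * (u * x * u⁻¹) := by group
    _ = y * (u * x * u⁻¹) := by rw [h.conj_conj]

/-- The three conclusions. -/
def Concl (D P : Subgroup G) (u : G) (p : ℕ) (z : G) : Prop :=
  (∀ x ∈ P, ∀ y ∈ P, Iv u x → Iv u y → Commute x y) ∧
  (∃ k ∈ P, Iv u k ∧ k ^ p = 1 ∧ k ∉ zpowers z) ∧
  ∀ w ∈ ⁅D, D⁆, (orderOf w).Coprime p → ∀ y ∈ P, Commute w y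

omit [Finite G] [Fact p.Prime] in
theorem mem_of_derived {w : G} (hw : w ∈ ⁅D, D⁆) : w ∈ D := by
  exact commutator_le.2 (fun a ha b hb => by
    simp only [commutatorElement_def]
    exact mul_mem (mul_mem (mul_mem ha hb) (inv_mem ha)) (inv_mem hb)) hw

/-- No fixed element in `Y`. -/
theorem case_free (hfix : ∀ y ∈ ySub h hz, Commute u y → y = 1) : Concl D P u p z := by
  have hYi := h.all_inv (ySub_le h hz) (ySub_normu h hz) hfix
  obtain ⟨f, hf, hfz⟩ := exists_ySub_not_mem h hz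
  obtain ⟨g, hg, hg1, hgu, hgp⟩ := h.exists_fixed
  have hgf : ¬ Commute f g := fun hc => hfz (mem_of_fixed h hz hg hg1 hgu hf (hYi f hf) hc)
  have hgen : ∀ x ∈ P, ∀ y ∈ ySub h hz, ∃ n : ℤ, ⁅g, f⁆ ^ n = ⁅x, y⁆ := fun x hx y hy =>
    mem_zpowers_iff.1 (zpow_eq_one_or_gen (hf.2.2 g hg) (hy.2.2 x hx) (hz.pow_eq (hf.2.2 g hg))
      (hz.pow_eq (hy.2.2 x hx)) fun e => hgf (commutatorElement_eq_one_iff_commute.1 e).symm)
  have hY : ∀ y ∈ ySub h hz, ∃ n : ℤ, ∃ c ∈ zpowers z, y = c * f ^ n := by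
    intro y hy
    obtain ⟨n, hn⟩ := hgen g hg y hy
    have hfn : f ^ (-n) ∈ ySub h hz := zpow_mem hf _
    refine ⟨n, y * f ^ (-n), mem_of_fixed h hz hg hg1 hgu (mul_mem hy hfn) (hYi _ (mul_mem hy hfn)) ?_,
      by group⟩
    refine (commutatorElement_eq_one_iff_commute.1 ?_).symm
    rw [hz.br hy.1 (hfn.2.2 g hg), hz.zr hf.1 (hf.2.2 g hg), ← hn, ← zpow_add, add_neg_cancel,
      zpow_zero]
  have hcf : ∀ x ∈ P, Commute x f → x ∈ cSub h hz := fun x hx hxf =>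
    (mem_cSub h hz).2 ⟨hx, fun y hy => by
      obtain ⟨n, c, hc, rfl⟩ := hY y hy
      exact (hz.comm hc hx).symm.mul_right (hxf.zpow_right n)⟩
  have hTfix : ∀ x ∈ cSub h hz, Commute u x → x = 1 := fun x hx hxu => by
    by_contra hx1
    have hx' := (mem_cSub h hz).1 hx
    exact hfz (mem_of_fixed h hz hx'.1 hx1 hxu hf (hYi f hf) (hx'.2 f hf).symm)
  have hTi := h.all_inv (cSub_le h hz) (cSub_normu h hz) hTfix
  have hTc : ∀ x ∈ cSub h hz, ∀ y ∈ cSub h hz, Commute x y := fun x hx y hy => comm_of_all_inv hTi hx hy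
  have hgT : g ∉ cSub h hz := fun hT => hgf (((mem_cSub h hz).1 hT).2 f hf).symm
  have hdec : ∀ x ∈ P, ∃ n : ℤ, ∃ t ∈ cSub h hz, x = g ^ n * t := by
    intro x hx
    obtain ⟨n, hn⟩ := hgen x hx f hf
    refine ⟨n, g ^ (-n) * x, hcf _ (mul_mem (zpow_mem hg _) hx) ?_, by group⟩
    rw [← commutatorElement_eq_one_iff_commute, hz.bl (zpow_mem hg _) (hf.2.2 _ (zpow_mem hg _))
      (hf.2.2 x hx), hz.zl hg (hf.2.2 g hg), ← hn, ← zpow_add, neg_add_cancel, zpow_zero]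
  have hTP : ∀ a ∈ P, ∀ t ∈ cSub h hz, a * t * a⁻¹ ∈ cSub h hz := fun a ha t ht =>
    cSub_normD h hz a (h.le ha) t ht
  -- inverted elements lie in `T`
  have hinv : ∀ x ∈ P, Iv u x → x ∈ cSub h hz := by
    intro x hx hxi
    obtain ⟨n, t, ht, rfl⟩ := hdec x hx
    refine mul_mem ?_ ht
    have e1 : g ^ n * t⁻¹ = t⁻¹ * g ^ (-n) := by
      have := hTi t ht
      unfold Iv at this hxi
      rw [show u * (g ^ n * t) * u⁻¹ = (u * g ^ n * u⁻¹) * (u * t * u⁻¹) by group,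
        (hgu.zpow_right n).eq, mul_inv_cancel_right, this, mul_inv_rev, ← zpow_neg] at hxi
      exact hxi
    have e2 : g ^ n * g ^ n ∈ cSub h hz := by
      have e3 : g ^ n * g ^ n = t⁻¹ * (g ^ (-n) * t * (g ^ (-n))⁻¹) := by
        calc g ^ n * g ^ n = (g ^ n * t⁻¹) * t * g ^ n := by group
          _ = (t⁻¹ * g ^ (-n)) * t * g ^ n := by rw [e1]
          _ = t⁻¹ * (g ^ (-n) * t * (g ^ (-n))⁻¹) := by group
      rw [e3]
      exact mul_mem (inv_mem ht) (hTP _ (zpow_mem hg _) t ht)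
    have e4 : g ^ n * g ^ n = 1 := hTfix _ e2 ((hgu.zpow_right n).mul_right (hgu.zpow_right n))
    rw [h.eq_one_sq (zpow_mem hg n) e4]
    exact one_mem _
  refine ⟨fun x hx y hy hxi hyi => hTc x (hinv x hx hxi) y (hinv y hy hyi),
    ⟨f, hf.1, hYi f hf, hf.2.1, hfz⟩, ?_⟩
  intro w hw hcop
  have hwD : w ∈ D := mem_of_derived hw
  have hwz : ∀ c ∈ zpowers z, Commute w c := fun c hc => by
    obtain ⟨n, rfl⟩ := mem_zpowers_iff.1 hc
    exact (commute_of_cyclic hz.normD hw).zpow_right n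
  have hidx : (cSub h hz).relIndex P = p := by
    haveI hn : ((cSub h hz).subgroupOf P).Normal :=
      ⟨fun n hn a => mem_subgroupOf.2 (hTP a a.2 n (mem_subgroupOf.1 hn))⟩
    have htop : zpowers (QuotientGroup.mk ⟨g, hg⟩ : P ⧸ (cSub h hz).subgroupOf P) = ⊤ := by
      refine eq_top_iff.2 fun q _ => ?_
      induction q using QuotientGroup.induction_on with
      | _ q =>
        obtain ⟨n, t, ht, e⟩ := hdec q q.2
        refine ⟨n, (QuotientGroup.eq.2 (mem_subgroupOf.2 ?_))⟩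
        simp only [coe_mul, coe_inv, coe_zpow]
        rw [e, inv_mul_cancel_left]
        exact ht
    show Nat.card (P ⧸ (cSub h hz).subgroupOf P) = p
    rw [← card_top, ← htop, Nat.card_zpowers]
    refine orderOf_eq_prime ?_ ?_
    · rw [← QuotientGroup.mk_pow, QuotientGroup.eq_one_iff, mem_subgroupOf]
      simp only [SubmonoidClass.coe_pow]
      rw [hgp]
      exact one_mem _
    · rw [Ne, QuotientGroup.eq_one_iff, mem_subgroupOf]
      exact hgT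
  have hq := fix_quot h.odd (cSub_le h hz) h.norm (cSub_normD h hz)
    (fun x hx y hy => (mem_cSub h hz).2 ⟨by
      simp only [commutatorElement_def]
      exact mul_mem (mul_mem (mul_mem hx hy) (inv_mem hx)) (inv_mem hy),
      fun v hv => commute_commutator h hz hx hy hv⟩)
    (fun x hx => (mem_cSub h hz).2 ⟨pow_mem hx _, fun v hv => commute_pow h hz hx hv⟩)
    (Or.inl hidx) hw hcop hg
  set t₀ := g⁻¹ * (w * g * w⁻¹) with ht₀
  -- `w` centralises `T`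
  have hwT : ∀ t ∈ cSub h hz, Commute w t := by
    have hmem : ∀ t ∈ cSub h hz, w * t * w⁻¹ * t⁻¹ ∈ cSub h hz := fun t ht =>
      mul_mem (cSub_normD h hz w hwD t ht) (inv_mem ht)
    let δ : cSub h hz →* G :=
      { toFun := fun t => w * t * w⁻¹ * (t : G)⁻¹
        map_one' := by simp
        map_mul' := fun a b => by
          show w * ((a : G) * b) * w⁻¹ * ((a : G) * b)⁻¹ =
            (w * a * w⁻¹ * (a : G)⁻¹) * (w * b * w⁻¹ * (b : G)⁻¹)
          calc w * ((a : G) * b) * w⁻¹ * ((a : G) * b)⁻¹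
              = w * a * w⁻¹ * ((w * b * w⁻¹ * (b : G)⁻¹) * (a : G)⁻¹) := by group
            _ = w * a * w⁻¹ * ((a : G)⁻¹ * (w * b * w⁻¹ * (b : G)⁻¹)) := by
                rw [(hTc _ (hmem b b.2) _ (inv_mem a.2)).eq]
            _ = (w * a * w⁻¹ * (a : G)⁻¹) * (w * b * w⁻¹ * (b : G)⁻¹) := by group }
    have hFle : δ.range ≤ cSub h hz := by
      rintro _ ⟨t, rfl⟩
      exact hmem t t.2
    have hgδ : ∀ t ∈ cSub h hz, g * (w * t * w⁻¹ * t⁻¹) * g⁻¹ =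
        w * (g * t * g⁻¹) * w⁻¹ * (g * t * g⁻¹)⁻¹ := fun t ht => by
      have h1 : w * (g * t * g⁻¹) * w⁻¹ = g * (w * t * w⁻¹) * g⁻¹ := by
        calc w * (g * t * g⁻¹) * w⁻¹ = g * (t₀ * (w * t * w⁻¹) * t₀⁻¹) * g⁻¹ := by rw [ht₀]; group
          _ = g * (w * t * w⁻¹) * g⁻¹ := by
              rw [(hTc _ hq _ (cSub_normD h hz w hwD t ht)).eq, mul_inv_cancel_right]
      rw [h1]
      group
    have hgn : ∀ c ∈ δ.range, g * c * g⁻¹ ∈ δ.range := by
      rintro _ ⟨t, rfl⟩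
      exact ⟨⟨g * t * g⁻¹, hTP g hg t t.2⟩, (hgδ t t.2).symm⟩
    intro t ht
    by_contra hwt
    haveI hFn : (δ.range.subgroupOf P).Normal := ⟨fun c hc a => by
      rw [mem_subgroupOf] at hc ⊢
      obtain ⟨n, s, hs, e⟩ := hdec a a.2
      simp only [coe_mul, coe_inv]
      rw [e, show g ^ n * s * (c : G) * (g ^ n * s)⁻¹ = g ^ n * (s * c * s⁻¹) * (g ^ n)⁻¹ by group,
        (hTc s hs _ (hFle hc)).eq, mul_inv_cancel_right]
      have key : ∀ (m : ℕ) (c : G), c ∈ δ.range → g ^ m * c * (g ^ m)⁻¹ ∈ δ.range := by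
        intro m
        induction m with
        | zero => intro c hc; simpa using hc
        | succ m ih =>
          intro c hc
          have := ih _ (hgn c hc)
          rwa [show g ^ m * (g * c * g⁻¹) * (g ^ m)⁻¹ = g ^ (m + 1) * c * (g ^ (m + 1))⁻¹ by
            rw [pow_succ]; group] at this
      obtain ⟨m, hm⟩ : ∃ m : ℕ, g ^ m = g ^ n :=
        (isOfFinOrder_of_finite g).mem_powers_iff_mem_zpowers.2 ⟨n, rfl⟩
      rw [← hm]
      exact key m _ hc⟩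
    have hne : δ.range.subgroupOf P ≠ ⊥ := by
      intro hb
      have h1 : (⟨_, cSub_le h hz (hmem t ht)⟩ : P) ∈ δ.range.subgroupOf P :=
        mem_subgroupOf.2 ⟨⟨t, ht⟩, rfl⟩
      rw [hb, mem_bot] at h1
      exact hwt (mul_inv_eq_iff_eq_mul.1 (mul_inv_eq_one.1 (congrArg Subtype.val h1)))
    haveI := h.isP.isNilpotent
    have hmeet := Solvable.FrattiniFitting.inf_center_ne_bot _ hne
    haveI : Nontrivial (δ.range.subgroupOf P ⊓ center P : Subgroup P) := (nontrivial_iff_ne_bot _).2 hmeet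
    obtain ⟨n, hn, hcard⟩ :=
      (h.isP.to_subgroup (δ.range.subgroupOf P ⊓ center P)).nontrivial_iff_card.1 inferInstance
    obtain ⟨c, hco⟩ := exists_prime_orderOf_dvd_card'
      (G := (δ.range.subgroupOf P ⊓ center P : Subgroup P)) p (by rw [hcard]; exact dvd_pow_self p hn.ne')
    rw [← orderOf_coe, ← orderOf_coe] at hco
    have hcz : ((c : P) : G) ∈ zpowers z := hz.max _ (c : P).2 (orderOf_dvd_iff_pow_eq_one.1 (dvd_of_eq hco))
      fun y hy => congrArg Subtype.val (mem_center_iff.1 c.2.2 ⟨y, hy⟩)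
    obtain ⟨s, hs⟩ := mem_subgroupOf.1 c.2.1
    have hws : w * s * w⁻¹ = (s : G) * ((c : P) : G) := by
      have : w * s * w⁻¹ = ((c : P) : G) * s := by rw [← hs]; show _ = _ * _; simp [δ]
      rw [this, (hz.comm hcz (cSub_le h hz s.2)).eq]
    have := stab hcop hws (hwz _ hcz) ⟨1, by rw [pow_one, hz.pow_eq hcz]⟩
    rw [this, orderOf_one] at hco
    exact (Fact.out : p.Prime).ne_one hco.symm
  have hwg : Commute w g := by
    have h1 : w * g * w⁻¹ = g * t₀ := by rw [ht₀]; group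
    have h2 := stab hcop h1 (hwT _ hq) (h.pow_one (cSub_le h hz hq))
    rw [h2, mul_one] at h1
    exact mul_inv_eq_iff_eq_mul.1 h1
  intro y hy
  obtain ⟨n, t, ht, rfl⟩ := hdec y hy
  exact (hwg.zpow_right n).mul_right (hwT t ht)

/-- A fixed element in `Y`. -/
theorem case_fixed {e₀ : G} (he₀ : e₀ ∈ ySub h hz) (he₀u : Commute u e₀) (he₀1 : e₀ ≠ 1) :
    Concl D P u p z := by
  obtain ⟨ε, hε⟩ : ∃ ε : ℕ, ε + ε = p + 1 := by
    obtain ⟨j, hj⟩ := (Fact.out : p.Prime).odd_of_ne_two h.p_ne_two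
    exact ⟨j + 1, by omega⟩
  have hdecomp : ∀ y ∈ ySub h hz, ∃ a ∈ ySub h hz, ∃ b ∈ ySub h hz,
      Commute u a ∧ Iv u b ∧ y = a * b := by
    intro y hy
    set i := y⁻¹ * (u * y * u⁻¹) with hi
    have hiY : i ∈ ySub h hz := mul_mem (inv_mem hy) (ySub_normu h hz y hy)
    have hii : Iv u i := by
      show u * i * u⁻¹ = i⁻¹
      calc u * i * u⁻¹ = (u * y * u⁻¹)⁻¹ * (u * (u * y * u⁻¹) * u⁻¹) := by rw [hi]; group
        _ = i⁻¹ := by rw [h.conj_conj, hi]; group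
    refine ⟨y * i ^ ε, mul_mem hy (pow_mem hiY _), (i ^ ε)⁻¹, inv_mem (pow_mem hiY _), ?_, ?_, ?_⟩
    · refine mul_inv_eq_iff_eq_mul.1 ?_
      have hii' : u * i * u⁻¹ = i⁻¹ := hii
      have hsq : i ^ ε * i ^ ε = i := by rw [← pow_add, hε, pow_succ, hiY.2.1, one_mul]
      calc u * (y * i ^ ε) * u⁻¹ = (u * y * u⁻¹) * (u * i * u⁻¹) ^ ε := by rw [conj_pow]; group
        _ = y * i * (i ^ ε)⁻¹ := by rw [hii', inv_pow, hi]; group
        _ = y * i ^ ε := by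
            conv_lhs => arg 1; rw [← hsq]
            group
    · have := iv_zpow hii (-(ε : ℤ))
      rwa [zpow_neg, zpow_natCast] at this
    · group
  have hsame : ∀ a ∈ ySub h hz, ∀ b ∈ ySub h hz, (Iv u a ∧ Iv u b) ∨ (Commute u a ∧ Commute u b) →
      Commute a b := fun a ha b hb => hz.comm_same h ha.1 hb.1 (hb.2.2 a ha.1)
  obtain ⟨k, hk, hki, e, he, heu, hke⟩ : ∃ k ∈ ySub h hz, Iv u k ∧
      ∃ e ∈ ySub h hz, Commute u e ∧ ¬ Commute k e := by
    by_contra hcon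
    push Not at hcon
    refine he₀1 (h.eq_one_both he₀.1 ?_ he₀u)
    refine h.a3 (ySub h hz) (fun y hy => h.le hy.1) (fun x hx y hy => ?_) (ySub_normD h hz)
      (ySub_normu h hz) e₀ he₀
    obtain ⟨a, ha, b, hb, hau, hbi, rfl⟩ := hdecomp x hx
    obtain ⟨a', ha', b', hb', hau', hbi', rfl⟩ := hdecomp y hy
    exact (((hsame a ha a' ha' (Or.inr ⟨hau, hau'⟩)).mul_right (hcon b' hb' hbi' a ha hau).symm)).mul_left
      ((hcon b hb hbi a' ha' hau').mul_right (hsame b hb b' hb' (Or.inl ⟨hbi, hbi'⟩)))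
  have he1 : e ≠ 1 := fun e1 => hke (e1 ▸ Commute.one_right k)
  have hkz : k ∉ zpowers z := fun hc => hke (hz.comm hc he.1)
  have hke' : ⁅k, e⁆ ≠ 1 := fun e1 => hke (commutatorElement_eq_one_iff_commute.1 e1)
  have hgen : ∀ c ∈ zpowers z, ∃ n : ℤ, ⁅k, e⁆ ^ n = c := fun c hc =>
    mem_zpowers_iff.1 (zpow_eq_one_or_gen (he.2.2 k hk.1) hc (hz.pow_eq (he.2.2 k hk.1)) (hz.pow_eq hc)
      hke')
  -- `Y` is generated by `e`, `k` and `z`
  have hY : ∀ y ∈ ySub h hz, ∃ (n m : ℤ), ∃ c ∈ zpowers z, y = e ^ n * k ^ m * c := by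
    intro y hy
    obtain ⟨a, ha, b, hb, hau, hbi, rfl⟩ := hdecomp y hy
    obtain ⟨n, hn⟩ := hgen _ (ha.2.2 k hk.1)
    obtain ⟨m, hm⟩ := hgen _ (he.2.2 b hb.1)
    refine ⟨n, m, k ^ (-m) * b, ?_, ?_⟩
    · have hkm : k ^ (-m) ∈ ySub h hz := zpow_mem hk _
      have hc : Commute (k ^ (-m)) b := hsame _ hkm _ hb (Or.inl ⟨iv_zpow hki _, hbi⟩)
      refine mem_of_fixed h hz he.1 he1 heu (mul_mem hkm hb) (iv_mul (iv_zpow hki _) hbi hc) ?_
      rw [← commutatorElement_eq_one_iff_commute, hz.bl hkm.1 (he.2.2 _ hkm.1) (he.2.2 b hb.1),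
        hz.zl hk.1 (he.2.2 k hk.1), ← hm, ← zpow_add, neg_add_cancel, zpow_zero]
    · have hen : e ^ (-n) ∈ ySub h hz := zpow_mem he _
      have hfa : e ^ (-n) * a = 1 := by
        by_contra h1
        refine hkz (mem_of_fixed h hz (mul_mem hen ha).1 h1 ((heu.zpow_right _).mul_right hau) hk hki ?_)
        rw [← commutatorElement_eq_one_iff_commute, hz.br hen.1 (ha.2.2 k hk.1),
          hz.zr he.1 (he.2.2 k hk.1), ← hn, ← zpow_add, neg_add_cancel, zpow_zero]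
      have : a = e ^ n := by
        rw [← mul_one (e ^ n), ← hfa]; group
      rw [this]; group
  have hcq : ∀ x ∈ P, Commute x k → Commute x e → x ∈ cSub h hz := fun x hx hxk hxe =>
    (mem_cSub h hz).2 ⟨hx, fun y hy => by
      obtain ⟨n, m, c, hc, rfl⟩ := hY y hy
      exact ((hxe.zpow_right n).mul_right (hxk.zpow_right m)).mul_right (hz.comm hc hx).symm⟩
  have hQi := h.all_inv (cSub_le h hz) (cSub_normu h hz) fun q hq hqu => by
    by_contra hq1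
    have hq' := (mem_cSub h hz).1 hq
    exact hkz (mem_of_fixed h hz hq'.1 hq1 hqu hk hki (hq'.2 k hk).symm)
  obtain ⟨k₀, hk₀⟩ := h.cyc e he.1 he1 heu
  have hQcyc : IsCyclic (cSub h hz) :=
    isCyclic_of_le (H' := zpowers k₀) fun q hq => hk₀ q (cSub_le h hz hq) (hQi q hq)
      (((mem_cSub h hz).1 hq).2 e he)
  have hdec : ∀ x ∈ P, ∃ y ∈ ySub h hz, ∃ q ∈ cSub h hz, x = y * q := by
    intro x hx
    obtain ⟨i, hi⟩ := hgen _ (he.2.2 x hx)
    obtain ⟨j, hj⟩ := hgen _ (hk.2.2 x hx)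
    -- `q = e ^ j * k ^ (-i) * x`
    have hek : ⁅e, k⁆ = ⁅k, e⁆⁻¹ := (commutatorElement_inv k e).symm
    have hej : e ^ j ∈ ySub h hz := zpow_mem he _
    have hki' : k ^ (-i) ∈ ySub h hz := zpow_mem hk _
    have hy : e ^ j * k ^ (-i) ∈ ySub h hz := mul_mem hej hki'
    refine ⟨(e ^ j * k ^ (-i))⁻¹, inv_mem hy, e ^ j * k ^ (-i) * x,
      hcq _ (mul_mem hy.1 hx) ?_ ?_, by group⟩
    · rw [← commutatorElement_eq_one_iff_commute, hz.bl hy.1 (hk.2.2 _ hy.1) (hk.2.2 x hx),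
        hz.bl hej.1 (hk.2.2 _ hej.1) (hk.2.2 _ hki'.1), hz.zl he.1 (hk.2.2 e he.1), hek,
        commutatorElement_eq_one_iff_commute.2 (Commute.zpow_self k (-i)), mul_one, inv_zpow, hj]
      exact inv_mul_cancel _
    · rw [← commutatorElement_eq_one_iff_commute, hz.bl hy.1 (he.2.2 _ hy.1) (he.2.2 x hx),
        hz.bl hej.1 (he.2.2 _ hej.1) (he.2.2 _ hki'.1),
        commutatorElement_eq_one_iff_commute.2 (Commute.zpow_self e j), one_mul,
        hz.zl hk.1 (he.2.2 k hk.1), zpow_neg, hi]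
      exact inv_mul_cancel _
  -- inverted elements are `k ^ m * c * q`
  have hinv : ∀ x ∈ P, Iv u x → ∃ m : ℤ, ∃ c ∈ zpowers z, ∃ q ∈ cSub h hz, x = k ^ m * c * q := by
    intro x hx hxi
    obtain ⟨y, hy, q, hq, rfl⟩ := hdec x hx
    obtain ⟨n, m, c, hc, rfl⟩ := hY y hy
    refine ⟨m, c, hc, q, hq, ?_⟩
    set a := e ^ n with ha
    set b := k ^ m with hb
    have hau : Commute u a := heu.zpow_right n
    have hbi : u * b * u⁻¹ = b⁻¹ := iv_zpow hki m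
    have hci : u * c * u⁻¹ = c⁻¹ := hz.iv hc
    have hqi : u * q * u⁻¹ = q⁻¹ := hQi q hq
    have haY : a ∈ ySub h hz := zpow_mem he n
    have hbY : b ∈ ySub h hz := zpow_mem hk m
    have e1 : a * b⁻¹ * (c⁻¹ * q⁻¹) = (b⁻¹ * a⁻¹) * (c⁻¹ * q⁻¹) := by
      have h1 : u * (a * b * c * q) * u⁻¹ = (a * b * c * q)⁻¹ := hxi
      rw [show u * (a * b * c * q) * u⁻¹ = (u * a * u⁻¹) * (u * b * u⁻¹) *
          ((u * c * u⁻¹) * (u * q * u⁻¹)) by group,
        hau.eq, mul_inv_cancel_right, hbi, hci, hqi] at h1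
      rw [h1]
      have hcq : Commute (a * b) (c * q) :=
        (((hz.comm hc haY.1).symm.mul_left (hz.comm hc hbY.1).symm)).mul_right
          ((((mem_cSub h hz).1 hq).2 a haY).symm.mul_left ((((mem_cSub h hz).1 hq).2 b hbY).symm))
      have hcq' : Commute c q := hz.comm hc (cSub_le h hz hq)
      calc (a * b * c * q)⁻¹ = ((a * b) * (c * q))⁻¹ := by group
        _ = ((c * q) * (a * b))⁻¹ := by rw [hcq.eq]
        _ = (b⁻¹ * a⁻¹) * (q⁻¹ * c⁻¹) := by group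
        _ = (b⁻¹ * a⁻¹) * (c⁻¹ * q⁻¹) := by rw [(hcq'.inv_inv).eq]
    have e2 : a * b⁻¹ = b⁻¹ * a⁻¹ := mul_right_cancel e1
    have e3 : ⁅b⁻¹, a⁻¹⁆ = a * a := by
      calc ⁅b⁻¹, a⁻¹⁆ = (b⁻¹ * a⁻¹) * (b⁻¹)⁻¹ * a := by simp only [commutatorElement_def]; group
        _ = a * a := by rw [← e2]; group
    have haa : a * a ∈ zpowers z := by
      rw [← e3]; exact (inv_mem haY).2.2 _ (inv_mem hbY.1)
    have haa1 : a * a = 1 := h.eq_one_both (hz.zle haa) (hz.iv haa) (hau.mul_right hau)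
    rw [h.eq_one_sq haY.1 haa1, one_mul]
  refine ⟨fun x hx y hy hxi hyi => ?_, ⟨k, hk.1, hki, hk.2.1, hkz⟩, ?_⟩
  · obtain ⟨m, c, hc, q, hq, rfl⟩ := hinv x hx hxi
    obtain ⟨m', c', hc', q', hq', rfl⟩ := hinv y hy hyi
    have hkq : ∀ (i : ℤ) (v : G), v ∈ cSub h hz → Commute (k ^ i) v := fun i v hv =>
      (((mem_cSub h hz).1 hv).2 _ (zpow_mem hk i)).symm
    have hqq : Commute q q' := comm_of_all_inv hQi hq hq'
    have hck : ∀ (i : ℤ) (v : G), v ∈ zpowers z → Commute (k ^ i) v := fun i v hv =>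
      (hz.comm hv (zpow_mem hk.1 i)).symm
    have hcq : ∀ v v' : G, v ∈ zpowers z → v' ∈ cSub h hz → Commute v v' := fun v v' hv hv' =>
      hz.comm hv (cSub_le h hz hv')
    exact Commute.mul_left
      (Commute.mul_left
        ((((Commute.refl k).zpow_zpow m m').mul_right (hck m c' hc')).mul_right (hkq m q' hq'))
        (((hck m' c hc).symm.mul_right (hz.comm hc (hz.zle hc'))).mul_right (hcq c q' hc hq')))
      (((hkq m' q hq).symm.mul_right (hcq c' q hc' hq).symm).mul_right hqq)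
  intro w hw hcop
  have hwD : w ∈ D := mem_of_derived hw
  have hwz : ∀ c ∈ zpowers z, Commute w c := fun c hc => by
    obtain ⟨n, rfl⟩ := mem_zpowers_iff.1 hc
    exact (commute_of_cyclic hz.normD hw).zpow_right n
  have hwQ : ∀ q ∈ cSub h hz, Commute w q := fun q hq => by
    obtain ⟨q₀, hq₀⟩ := hQcyc.exists_generator
    have hz' : ∀ d ∈ D, d * q₀ * d⁻¹ ∈ zpowers (q₀ : G) := fun d hd => by
      obtain ⟨i, hi⟩ := mem_zpowers_iff.1 (hq₀ ⟨_, cSub_normD h hz d hd q₀ q₀.2⟩)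
      exact ⟨i, by simpa using congrArg Subtype.val hi⟩
    obtain ⟨i, hi⟩ := mem_zpowers_iff.1 (hq₀ ⟨q, hq⟩)
    have hi' : (q₀ : G) ^ i = q := by simpa using congrArg Subtype.val hi
    rw [← hi']
    exact (commute_of_cyclic hz' hw).zpow_right i
  have hidx : (zpowers z).relIndex (ySub h hz) = p ∨ (zpowers z).relIndex (ySub h hz) = p ^ 2 := by
    set N := (zpowers z).subgroupOf (ySub h hz)
    haveI hn : N.Normal := ⟨fun c hc a => by
      rw [mem_subgroupOf] at hc ⊢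
      simp only [coe_mul, coe_inv]
      rw [← (hz.comm hc (ySub_le h hz a.2)).eq, mul_inv_cancel_right]
      exact hc⟩
    set ē : ySub h hz ⧸ N := QuotientGroup.mk ⟨e, he⟩
    set kb : ySub h hz ⧸ N := QuotientGroup.mk ⟨k, hk⟩
    have hpg : IsPGroup p (ySub h hz ⧸ N) := fun a => by
      induction a using QuotientGroup.induction_on with
      | _ a =>
        refine ⟨1, ?_⟩
        rw [pow_one, ← QuotientGroup.mk_pow, show a ^ p = 1 from Subtype.ext a.2.2.1,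
          QuotientGroup.mk_one]
    have hord : ∀ a : ySub h hz, orderOf (QuotientGroup.mk a : ySub h hz ⧸ N) ≤ p := fun a =>
      Nat.le_of_dvd (Fact.out : p.Prime).pos (orderOf_dvd_of_pow_eq_one (by
        rw [← QuotientGroup.mk_pow, show a ^ p = 1 from Subtype.ext a.2.2.1, QuotientGroup.mk_one]))
    have hle : Nat.card (ySub h hz ⧸ N) ≤ p * p := by
      have hsur : Function.Surjective
          fun ab : zpowers ē × zpowers kb => (ab.1 : ySub h hz ⧸ N) * ab.2 := by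
        intro a
        induction a using QuotientGroup.induction_on with
        | _ a =>
          obtain ⟨n, m, c, hc, e'⟩ := hY a a.2
          refine ⟨(⟨ē ^ n, ⟨n, rfl⟩⟩, ⟨kb ^ m, ⟨m, rfl⟩⟩), ?_⟩
          show ē ^ n * kb ^ m = _
          rw [← QuotientGroup.mk_zpow, ← QuotientGroup.mk_zpow, ← QuotientGroup.mk_mul,
            QuotientGroup.eq, mem_subgroupOf]
          simp only [coe_mul, coe_inv, coe_zpow]
          rw [e', inv_mul_cancel_left]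
          exact hc
      refine (Nat.card_le_card_of_surjective _ hsur).trans ?_
      rw [Nat.card_prod, Nat.card_zpowers, Nat.card_zpowers]
      exact Nat.mul_le_mul (hord _) (hord _)
    obtain ⟨j, hj⟩ := IsPGroup.iff_card.1 hpg
    have h1p := (Fact.out : p.Prime).one_lt
    have hj2 : j ≤ 2 := (Nat.pow_le_pow_iff_right h1p).1 (by rwa [hj, ← pow_two] at hle)
    have hj0 : j ≠ 0 := by
      rintro rfl
      rw [pow_zero, Nat.card_eq_one_iff_unique] at hj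
      haveI := hj.1
      exact hkz (mem_subgroupOf.1 ((QuotientGroup.eq_one_iff _).1 (Subsingleton.elim kb 1)))
    show Nat.card (ySub h hz ⧸ N) = p ∨ Nat.card (ySub h hz ⧸ N) = p ^ 2
    rw [hj]
    rcases (by omega : j = 1 ∨ j = 2) with rfl | rfl
    · exact Or.inl (pow_one p)
    · exact Or.inr rfl
  have hwY : ∀ y ∈ ySub h hz, Commute w y := fun y hy => by
    have hq := fix_quot h.odd (zpowers_le_ySub h hz) (ySub_normD h hz) hz.conjD
      (fun a ha b hb => hb.2.2 a ha.1) (fun a ha => by rw [ha.2.1]; exact one_mem _) hidx hw hcop hy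
    have h1 : w * y * w⁻¹ = y * (y⁻¹ * (w * y * w⁻¹)) := by group
    have h2 := stab hcop h1 (hwz _ hq) ⟨1, by rw [pow_one, hz.pow_eq hq]⟩
    rw [h2, mul_one] at h1
    exact mul_inv_eq_iff_eq_mul.1 h1
  intro x hx
  obtain ⟨y, hy, q, hq, rfl⟩ := hdec x hx
  exact (hwY y hy).mul_right (hwQ q hq)

end

/-- The structure theorem. -/
theorem Hyp.main [Finite G] [Fact p.Prime] (h : Hyp D P u p) :
    (∃ T : Subgroup G, (∀ k, k ∈ T ↔ k ∈ P ∧ Iv u k) ∧ ∀ x ∈ T, ∀ y ∈ T, Commute x y) ∧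
    (∃ g ∈ P, g ≠ 1 ∧ Commute u g) ∧
    (∃ f g, f ∈ P ∧ g ∈ P ∧ Iv u f ∧ Iv u g ∧ f ^ p = 1 ∧ g ^ p = 1 ∧ f ≠ 1 ∧ g ∉ zpowers f) ∧
    ∀ w ∈ ⁅D, D⁆, (orderOf w).Coprime p → ∀ y ∈ P, Commute w y := by
  obtain ⟨z, hz⟩ := h.exists_cent
  obtain ⟨h1, ⟨k, hk, hki, hkp, hkz⟩, h3⟩ : Concl D P u p z := by
    by_cases hc : ∀ y ∈ ySub h hz, Commute u y → y = 1
    · exact case_free h hz hc
    · push Not at hc
      obtain ⟨e, he, heu, he1⟩ := hc
      exact case_fixed h hz he heu he1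
  obtain ⟨g, hg, hg1, hgu, -⟩ := h.exists_fixed
  exact ⟨⟨{ carrier := {x | x ∈ P ∧ Iv u x}
            one_mem' := ⟨one_mem _, by show u * 1 * u⁻¹ = 1⁻¹; simp⟩
            mul_mem' := fun {a b} ha hb =>
              ⟨mul_mem ha.1 hb.1, iv_mul ha.2 hb.2 (h1 a ha.1 b hb.1 ha.2 hb.2)⟩
            inv_mem' := fun {a} ha => ⟨inv_mem ha.1, by simpa using iv_zpow ha.2 (-1)⟩ },
      fun k => Iff.rfl, fun x hx y hy => h1 x hx.1 y hy.1 hx.2 hy.2⟩,
    ⟨g, hg, hg1, hgu⟩, ⟨z, k, hz.mem, hk, hz.inv, hki, hz.pow, hkp, hz.ne, hkz⟩, h3⟩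

end CfsgLib.LocalEven.BenderSplit.PInverted
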