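import Cfsg.Agent.Lib.LocalEven.BenderSplit.NonLinear.Basic
import Cfsg.Agent.Lib.LocalEven.BenderSplit.NonLinear.PInverted

/-!
# The non-linear case: non-abelian p-subgroups of a two-point stabiliser

`Ctx.pgroup_nonabelian_of`: the inverted elements of a non-abelian `p`-subgroup normal in the two-point
stabiliser commute, contain two independent elements of order `p`, and the `p'`-part of the derived
group centralises it.
-/

set_option autoImplicit false
set_option linter.style.haveILetI false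

namespace CfsgLib.LocalEven.BenderSplit.NonLinear

open Subgroup MulAction CfsgLib.Involution.Dihedral CfsgLib.Involution
  CfsgLib.LocalEven.BenderTransitive CfsgLib.LocalEven.SwapInjective CfsgLib.LocalEven.StrongCore

universe u

variable {G : Type u} [Group G] [Finite G] {H : Subgroup G}

/-- The structure of a non-abelian normal `p`-subgroup, given that abelian normal ones are inverted. -/
theorem Ctx.pgroup_nonabelian_of {a b : G ⧸ H} {u x : G} (c : Ctx H a b u x)
    (hinv : ∀ A : Subgroup G, A ≤ stab2 a b → (∀ x ∈ A, ∀ y ∈ A, Commute x y) →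
      stab2 a b ≤ normalizer (A : Set G) → u ∈ normalizer (A : Set G) →
      ∀ k ∈ A, Inverted a b u k)
    (p : ℕ) [Fact p.Prime] (P : Subgroup G) (hPD : P ≤ stab2 a b) (hP : IsPGroup p P)
    (hn : stab2 a b ≤ normalizer (P : Set G)) (hu : u ∈ normalizer (P : Set G))
    (hnab : ¬ ∀ x ∈ P, ∀ y ∈ P, Commute x y) :
    (∃ T : Subgroup G, (∀ k, k ∈ T ↔ k ∈ P ∧ Inverted a b u k) ∧
      ∀ x ∈ T, ∀ y ∈ T, Commute x y) ∧
    (∃ g ∈ P, g ≠ 1 ∧ Commute u g) ∧
    (∃ f g, f ∈ P ∧ g ∈ P ∧ Inverted a b u f ∧ Inverted a b u g ∧ f ^ p = 1 ∧ g ^ p = 1 ∧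
      f ≠ 1 ∧ g ∉ zpowers f) ∧
    ∀ w ∈ ⁅invClosure a ⊓ stab2 a b, invClosure a ⊓ stab2 a b⁆, (orderOf w).Coprime p →
      ∀ y ∈ P, Commute w y := by
  have huu : u * u = 1 := by
    rw [← pow_two]
    exact orderOf_dvd_iff_pow_eq_one.1 (dvd_of_eq c.hu)
  push Not at hnab
  have h : PInverted.Hyp (stab2 a b) P u p :=
    { le := hPD
      odd := c.odd
      isP := hP
      norm := fun d hd y hy => BenderTransitive.conj_mem_of_mem_normalizer (hn hd) hy
      normu := fun y hy => BenderTransitive.conj_mem_of_mem_normalizer hu hy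
      uu := huu
      a3 := fun A hA hAc hAn hAu k hk => by
        refine (hinv A hA hAc (fun d hd => mem_normalizer_iff.2 fun y => ⟨hAn d hd y, fun hy => ?_⟩)
          (mem_normalizer_iff.2 fun y => ⟨hAu y, fun hy => ?_⟩) k hk).2
        · have := hAn d⁻¹ (inv_mem hd) _ hy
          rwa [show d⁻¹ * (d * y * d⁻¹) * d⁻¹⁻¹ = y by group] at this
        · have := hAu _ hy
          rwa [inv_eq_of_mul_eq_one_right huu,
            show u * (u * y * u) * u = (u * u) * y * (u * u) by group, huu, one_mul, mul_one] at this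
      cyc := fun z hz hz1 hzu => by
        obtain ⟨k₀, hk₀⟩ := c.exists_cyclic_inverted (hPD hz) hz1 hzu
        exact ⟨k₀, fun k hk hki hkz => hk₀ k ⟨hPD hk, hki⟩ hkz⟩
      nab := hnab }
  obtain ⟨⟨T, hT, hTc⟩, hg, ⟨f, g, hf, hg', hfi, hgi, hfp, hgp, hf1, hgf⟩, hw⟩ := h.main
  exact ⟨⟨T, fun k => (hT k).trans ⟨fun hk => ⟨hk.1, hPD hk.1, hk.2⟩, fun hk => ⟨hk.1, hk.2.2⟩⟩, hTc⟩,
    hg, ⟨f, g, hf, hg', ⟨hPD hf, hfi⟩, ⟨hPD hg', hgi⟩, hfp, hgp, hf1, hgf⟩,
    fun w hw' => hw w (commutator_mono inf_le_right inf_le_right hw')⟩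

end CfsgLib.LocalEven.BenderSplit.NonLinear
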