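import Cfsg.Agent.Lib.LocalEven.BenderSplit.NonLinear.Semiregular
import Cfsg.Agent.Lib.LocalEven.BenderSplit.NonLinear.FittingPGroup
import Cfsg.Agent.Lib.LocalEven.BenderSplit.End
import Cfsg.Agent.Lib.LocalEven.BenderTransitive.OddConfigFitting
import Cfsg.Agent.Lib.LocalEven.StrongCore.AutOdd
import Cfsg.Agent.Lib.Solvable.NarrowFitting
import Cfsg.Agent.Lib.Components.FrattiniQuotient

/-!
# The inverted elements in the non-linear case

The elements of a two-point stabiliser inverted by the swap form a commutative subgroup, which is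
either self-centralising and normal or has a prime with cyclic root groups.
-/

set_option autoImplicit false
set_option linter.style.haveILetI false

namespace CfsgLib.LocalEven.BenderSplit.NonLinear

open Subgroup MulAction CfsgLib.Involution.Dihedral CfsgLib.Involution
  CfsgLib.LocalEven.BenderTransitive CfsgLib.LocalEven.SwapInjective CfsgLib.LocalEven.StrongCore

universe u

variable {G : Type u} [Group G] {H : Subgroup G}

/-- A normaliser of a subgroup normalises its cores. -/
theorem mem_normalizer_fcore_of_normalizer {r : ℕ} {D : Subgroup G} {g : G}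
    (hg : g ∈ normalizer (D : Set G)) [Finite G] : g ∈ normalizer (fcore r D : Set G) := by
  refine Coprime.mem_normalizer_of_conj_map_le ?_
  rintro _ ⟨x, hx, rfl⟩
  exact ⟨D.normalizerMonoidHom ⟨g, hg⟩ x,
    characteristic_iff_map_le.1 (Solvable.Cores.pCore_characteristic r)
      (D.normalizerMonoidHom ⟨g, hg⟩) (mem_map_of_mem _ hx), rfl⟩

theorem commute_of_fcore {D : Subgroup G} {r s : ℕ} (hr : r.Prime) (hs : s.Prime) (hrs : r ≠ s)
    {x y : G} (hx : x ∈ fcore r D) (hy : y ∈ fcore s D) : Commute x y :=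
  haveI := Fact.mk hr
  haveI := Fact.mk hs
  (mem_centralizer_iff.1 ((commutator_eq_bot_iff_le_centralizer.1
    (commutator_fcore_eq_bot hrs D)) hx) y hy).symm

theorem inverted_pow {a b : G ⧸ H} {u k z : G} (hk : Inverted a b u k) (hz : z ∈ zpowers k) :
    Inverted a b u z := by
  obtain ⟨i, rfl⟩ := mem_zpowers_iff.1 hz
  refine ⟨zpow_mem hk.1 i, ?_⟩
  have h1 := map_zpow (MulAut.conj u).toMonoidHom k i
  simp only [MulEquiv.coe_toMonoidHom, MulAut.conj_apply] at h1
  rw [h1, hk.2, inv_zpow]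

variable [Finite G]

/-- In a subgroup, the prime-power elements of the Fitting subgroup lie in the cores. -/
theorem mem_fcore_of_fitting {D : Subgroup G} {ℓ : ℕ} (hℓ : ℓ.Prime) {z : G} (hzD : z ∈ D)
    (hzF : (⟨z, hzD⟩ : D) ∈ Cfsg.fittingSubgroup D) (hz : IsPGroup ℓ (zpowers z)) :
    z ∈ fcore ℓ D := by
  haveI := Fact.mk hℓ
  refine ⟨⟨z, hzD⟩, Components.FrattiniQuotient.mem_pCore_of_mem_fitting hzF ?_, rfl⟩
  obtain ⟨j, hj⟩ := IsPGroup.iff_orderOf.1 hz ⟨z, mem_zpowers z⟩
  rw [Subgroup.orderOf_mk] at hj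
  exact IsPGroup.of_card (n := j) (by rw [Nat.card_zpowers, Subgroup.orderOf_mk, hj])

/-- The inverted elements form a commutative group, self-centralising and normal or with cyclic
roots for some prime. -/
theorem Ctx.inverted_cases_of {a b : G ⧸ H} {u x : G} (c : Ctx H a b u x)
    (hLn : stab2 a b ≤ normalizer (invClosure a : Set G))
    (hnp : ∀ p : ℕ, p.Prime → ∀ k : ℕ, mult H ≠ p ^ k)
    (hcyc : ∀ z, z ∈ stab2 a b → z ≠ 1 → Commute u z →
      ∃ k₀, ∀ k, Inverted a b u k → Commute k z → k ∈ zpowers k₀)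
    (hmemW : ∀ k, Inverted a b u k →
      k ∈ ⁅invClosure a ⊓ stab2 a b, invClosure a ⊓ stab2 a b⁆)
    (hinv : ∀ A : Subgroup G, A ≤ stab2 a b → (∀ x ∈ A, ∀ y ∈ A, Commute x y) →
      stab2 a b ≤ normalizer (A : Set G) → u ∈ normalizer (A : Set G) →
      ∀ k ∈ A, Inverted a b u k)
    (hC1 : ∀ (p : ℕ) [Fact p.Prime] (P : Subgroup G), P ≤ stab2 a b → IsPGroup p P →
      stab2 a b ≤ normalizer (P : Set G) → u ∈ normalizer (P : Set G) →
      (¬ ∀ x ∈ P, ∀ y ∈ P, Commute x y) →
      (∃ T : Subgroup G, (∀ k, k ∈ T ↔ k ∈ P ∧ Inverted a b u k) ∧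
        ∀ x ∈ T, ∀ y ∈ T, Commute x y) ∧
      (∃ g ∈ P, g ≠ 1 ∧ Commute u g) ∧
      (∃ f g, f ∈ P ∧ g ∈ P ∧ Inverted a b u f ∧ Inverted a b u g ∧ f ^ p = 1 ∧ g ^ p = 1 ∧
        f ≠ 1 ∧ g ∉ zpowers f) ∧
      ∀ w ∈ ⁅invClosure a ⊓ stab2 a b, invClosure a ⊓ stab2 a b⁆, (orderOf w).Coprime p →
        ∀ y ∈ P, Commute w y) :
    ∃ J, InvGroup a b u J ∧
      ((∃ q, q.Prime ∧ q ∣ mult H ∧
          ∀ f ∈ J, ∀ g ∈ J, f ^ q = 1 → g ^ q = 1 → f ≠ 1 → g ∈ zpowers f) ∨
        (stab2 a b ≤ normalizer (J : Set G) ∧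
          ∀ d ∈ stab2 a b, (∀ k ∈ J, Commute d k) → d ∈ J)) := by
  classical
  set D := stab2 a b with hD
  have hodd : Odd (Nat.card D) := odd_stab2 c.hmin.min.se c.ne
  haveI hsol : Group.IsSolvable D := OddOrder.Final.oddSolvable D hodd
  have huD : u ∈ normalizer (D : Set G) := swap_mem_normalizer c.hu c.hua
  by_cases hall : ∀ p : ℕ, p.Prime → ∀ x ∈ fcore p D, ∀ y ∈ fcore p D, Commute x y
  · -- the Fitting subgroup is commutative
    set A := closure {x : G | ∃ q : ℕ, q.Prime ∧ x ∈ fcore q D} with hA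
    have hAD : A ≤ D := (closure_le _).2 fun x ⟨q, _, hx⟩ => fcore_le q D hx
    have hAc : ∀ x ∈ A, ∀ y ∈ A, Commute x y := by
      haveI : IsMulCommutative A := Subgroup.isMulCommutative_closure (by
        rintro x ⟨q, hq, hx⟩ y ⟨r, hr, hy⟩
        by_cases hqr : q = r
        · subst hqr; exact (hall q hq x hx y hy).eq
        · exact (commute_of_fcore hq hr hqr hx hy).eq)
      exact fun x hx y hy => congrArg Subtype.val (mul_comm' (⟨x, hx⟩ : A) ⟨y, hy⟩)
    have hnorm : ∀ {g : G}, g ∈ normalizer (D : Set G) → g ∈ normalizer (A : Set G) := fun hg =>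
      normalizer_closure fun s ⟨q, hq, hs⟩ => subset_closure ⟨q, hq,
        BenderTransitive.conj_mem_of_mem_normalizer (mem_normalizer_fcore_of_normalizer hg) hs⟩
    have hDA : D ≤ normalizer (A : Set G) := fun d hd => hnorm (le_normalizer hd)
    have hAinv := hinv A hAD hAc hDA (hnorm huD)
    have hself : ∀ d ∈ D, (∀ k ∈ A, Commute d k) → d ∈ A := by
      intro d hd hdA
      have hF : Cfsg.fittingSubgroup D ≤ A.subgroupOf D := le_of_primePow_mem fun ℓ hℓ z hz hzp =>
        mem_subgroupOf.2 (subset_closure ⟨ℓ, hℓ, mem_fcore_of_fitting hℓ z.2 hz (by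
          have h1 := hzp.map D.subtype
          rwa [MonoidHom.map_zpowers] at h1)⟩)
      exact hF (Solvable.Cores.centralizer_fittingSubgroup_le (x := (⟨d, hd⟩ : D))
        (mem_centralizer_iff.2 fun f hf => Subtype.ext (hdA f (hF hf)).eq.symm))
    refine ⟨A, ⟨fun k => ⟨hAinv k, fun hk => ?_⟩, hAc⟩, Or.inr ⟨hDA, hself⟩⟩
    -- `k²` centralises `A`
    refine hself k hk.1 fun f hf => ?_
    refine StrongCore.commute_of_sq (hodd.of_dvd_nat (Subgroup.orderOf_dvd_natCard _ hk.1)) ?_
    have h1 : u * (k * f * k⁻¹) * u⁻¹ = (k * f * k⁻¹)⁻¹ :=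
      (hAinv _ (BenderTransitive.conj_mem_of_mem_normalizer (hDA hk.1) hf)).2
    have h2 : k⁻¹ * f⁻¹ * k = k * f⁻¹ * k⁻¹ := by
      calc k⁻¹ * f⁻¹ * k = (u * k * u⁻¹) * (u * f * u⁻¹) * (u * k * u⁻¹)⁻¹ := by
            rw [hk.2, (hAinv f hf).2, inv_inv]
        _ = u * (k * f * k⁻¹) * u⁻¹ := by group
        _ = k * f⁻¹ * k⁻¹ := by rw [h1]; group
    have h3 : Commute (k * k) f⁻¹ := by
      show k * k * f⁻¹ = f⁻¹ * (k * k)
      calc k * k * f⁻¹ = k * (k * f⁻¹ * k⁻¹) * k := by group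
        _ = k * (k⁻¹ * f⁻¹ * k) * k := by rw [h2]
        _ = f⁻¹ * (k * k) := by group
    simpa using h3.inv_right
  · -- a non-commutative core
    push Not at hall
    obtain ⟨p, hp, hx₁⟩ := hall
    haveI := Fact.mk hp
    set P := fcore p D with hP
    have hPD : P ≤ D := fcore_le p D
    obtain ⟨⟨T, hT, hTc⟩, ⟨g, hgP, hg1, hug⟩, -, hwP⟩ := hC1 p P hPD (isPGroup_fcore p D)
      (le_normalizer_fcore p D) (mem_normalizer_fcore_of_normalizer huD) (by
        intro hc
        obtain ⟨x, hx, y, hy, hxy⟩ := hx₁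
        exact hxy (hc x hx y hy))
    obtain ⟨k₀, hk₀⟩ := hcyc g (hPD hgP) hg1 hug
    have hother : ∀ q : ℕ, q.Prime → q ≠ p → ∀ k ∈ fcore q D, Inverted a b u k →
        k ∈ zpowers k₀ := fun q hq hqp k hk hki =>
      hk₀ k hki (commute_of_fcore hq hp hqp hk hgP)
    have hcyclic : ∀ q : ℕ, q.Prime → q ≠ p → IsCyclic (fcore q D) := by
      intro q hq hqp
      haveI := Fact.mk hq
      have hQc : ∀ x ∈ fcore q D, ∀ y ∈ fcore q D, Commute x y := by
        by_contra hno
        obtain ⟨-, -, ⟨f, f', hf, hf', hfi, hfi', hfq, hfq', hf1, hne⟩, -⟩ :=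
          hC1 q (fcore q D) (fcore_le q D) (isPGroup_fcore q D) (le_normalizer_fcore q D)
            (mem_normalizer_fcore_of_normalizer huD) hno
        exact hne (mem_zpowers_of_cyclic (F := zpowers k₀) (hother q hq hqp f hf hfi)
          (orderOf_eq_prime hfq hf1) (hother q hq hqp f' hf' hfi') hfq')
      have hle : fcore q D ≤ zpowers k₀ := fun k hk => hother q hq hqp k hk
        (hinv _ (fcore_le q D) hQc (le_normalizer_fcore q D)
          (mem_normalizer_fcore_of_normalizer huD) k hk)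
      exact isCyclic_of_injective (f := Subgroup.inclusion hle) (Subgroup.inclusion_injective _)
    set M := invClosure a ⊓ D with hM
    set W := ⁅M, M⁆ with hW
    have hMD : M ≤ D := inf_le_right
    have hWD : W ≤ D := commutator_le.2 fun x hx y hy =>
      mul_mem (mul_mem (mul_mem (hMD hx) (hMD hy)) (inv_mem (hMD hx))) (inv_mem (hMD hy))
    have hWn : D ≤ normalizer (W : Set G) := fun d hd => by
      have hdM : d ∈ normalizer (M : Set G) :=
        mem_normalizer_inf' (hLn hd) (le_normalizer hd)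
      refine mem_normalizer_iff_map_conj_eq.2 ?_
      rw [hW, map_commutator, mem_normalizer_iff_map_conj_eq.1 hdM]
    haveI : (W.subgroupOf D).Normal := (normal_subgroupOf_iff_le_normalizer hWD).2 hWn
    have hWF : W.subgroupOf D ≤ Cfsg.fittingSubgroup D := by
      refine Solvable.NarrowFitting.le_fitting_of_centralizes fun r q hr hq hrq z hz ⟨j, hj⟩ => ?_
      refine mem_centralizer_iff.2 fun y hy => Subtype.ext ?_
      have hyq : (y : G) ∈ fcore q D := ⟨y, hy, rfl⟩
      have hzW : (z : G) ∈ W := mem_subgroupOf.1 hz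
      by_cases hqp : q = p
      · subst hqp
        refine (hwP _ hzW ?_ _ hyq).eq.symm
        rw [orderOf_coe, hj]
        exact Nat.Coprime.pow_left j ((Nat.coprime_primes hr hq).2 hrq)
      · haveI := hcyclic q hq hqp
        have hle : W ≤ centralizer (fcore q D : Set G) := commutator_le.2 fun x hx y hy =>
          comm_mem_centralizer (le_normalizer_fcore q D (hMD hx))
            (le_normalizer_fcore q D (hMD hy))
        exact mem_centralizer_iff.1 (hle hzW) _ hyq
    have hpart : ∀ {k : G}, Inverted a b u k → ∀ ℓ : ℕ, ℓ.Prime → ∀ z ∈ zpowers k,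
        IsPGroup ℓ (zpowers z) → z ∈ fcore ℓ D := fun hk ℓ hℓ z hz hzp =>
      mem_fcore_of_fitting hℓ (inverted_pow hk hz).1
        (hWF (mem_subgroupOf.2 (hmemW z (inverted_pow hk hz)))) hzp
    have hcomm : ∀ {k l : G}, Inverted a b u k → Inverted a b u l → Commute k l := by
      intro k l hk hl
      suffices h : zpowers k ≤ centralizer (zpowers l : Set G) from
        (mem_centralizer_iff.1 (h (mem_zpowers k)) l (mem_zpowers l)).symm
      refine le_of_primePow_mem fun r hr z hz hzp => ?_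
      suffices h : zpowers l ≤ centralizer ({z} : Set G) from mem_centralizer_iff.2 fun y hy =>
        mem_centralizer_singleton_iff.1 (h hy)
      refine le_of_primePow_mem fun s hs y hy hyp => mem_centralizer_singleton_iff.2 ?_
      have hzr := hpart hk r hr z hz hzp
      have hys := hpart hl s hs y hy hyp
      by_cases hrs : r = s
      · subst hrs
        by_cases hrp : r = p
        · subst hrp
          exact (hTc y ((hT y).2 ⟨hys, inverted_pow hl hy⟩) z
            ((hT z).2 ⟨hzr, inverted_pow hk hz⟩)).eq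
        · obtain ⟨i, hi⟩ := mem_zpowers_iff.1 (hother r hr hrp z hzr (inverted_pow hk hz))
          obtain ⟨j, hj⟩ := mem_zpowers_iff.1 (hother r hr hrp y hys (inverted_pow hl hy))
          rw [← hi, ← hj, ← zpow_add, ← zpow_add, add_comm]
      · exact (commute_of_fcore hs hr (Ne.symm hrs) hys hzr).eq
    let J : Subgroup G :=
      { carrier := {k | Inverted a b u k}
        one_mem' := ⟨one_mem _, by simp⟩
        mul_mem' := fun {k l} hk hl => ⟨mul_mem hk.1 hl.1, by
          calc u * (k * l) * u⁻¹ = (u * k * u⁻¹) * (u * l * u⁻¹) := by group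
            _ = k⁻¹ * l⁻¹ := by rw [hk.2, hl.2]
            _ = (k * l)⁻¹ := by rw [← mul_inv_rev, (hcomm hk hl).eq]⟩
        inv_mem' := fun {k} hk => inverted_pow hk (inv_mem (mem_zpowers k)) }
    obtain ⟨q, hq, hqd, hqp⟩ : ∃ q, q.Prime ∧ q ∣ mult H ∧ q ≠ p := by
      by_contra hno
      push Not at hno
      exact hnp p hp _ (Nat.eq_prime_pow_of_unique_prime_dvd (mult_pos c.hmin.min.se).ne'
        fun {d} hd hdm => hno d hd hdm)
    haveI := Fact.mk hq
    refine ⟨J, ⟨fun k => Iff.rfl, fun x hx y hy => hcomm hx hy⟩,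
      Or.inl ⟨q, hq, hqd, fun f hf f' hf' hfq hfq' hf1 => ?_⟩⟩
    have hroot : ∀ {k : G}, Inverted a b u k → k ^ q = 1 → k ∈ zpowers k₀ := fun {k} hk hkq => by
      refine hother q hq hqp k (hpart hk q hq k (mem_zpowers k) ?_) hk
      obtain ⟨j, -, hj⟩ := (Nat.dvd_prime_pow hq).1 (orderOf_dvd_of_pow_eq_one
        (show k ^ q ^ 1 = 1 by rwa [pow_one]))
      exact IsPGroup.of_card (n := j) (by rw [Nat.card_zpowers, hj])
    exact mem_zpowers_of_cyclic (F := zpowers k₀) (hroot hf hfq) (orderOf_eq_prime hfq hf1)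
      (hroot hf' hfq') hfq'

/-- In the non-linear case the inverted elements form a commutative group, self-centralising and
normal or with cyclic roots for some prime. -/
theorem Ctx.inverted_cases {a b : G ⧸ H} {u x : G} (c : Ctx H a b u x) :
    ∃ J, InvGroup a b u J ∧
      ((∃ q, q.Prime ∧ q ∣ mult H ∧
          ∀ f ∈ J, ∀ g ∈ J, f ^ q = 1 → g ^ q = 1 → f ≠ 1 → g ∈ zpowers f) ∨
        (stab2 a b ≤ normalizer (J : Set G) ∧
          ∀ d ∈ stab2 a b, (∀ k ∈ J, Commute d k) → d ∈ J)) :=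
  c.inverted_cases_of (inf_le_left.trans (stabilizer_le_normalizer a))
    (fun _ hp k => c.not_prime_pow hp k) (fun _ hz hz1 h => c.exists_cyclic_inverted hz hz1 h)
    (fun _ hk => c.inverted_mem_commutator hk)
    (fun _ h1 h2 h3 h4 _ hk => c.inverted_of_normal h1 h2 h3 h4 hk)
    (fun p _ P hPD hP hn hu hnab => c.pgroup_nonabelian_of
      (fun _ h1 h2 h3 h4 _ hk => c.inverted_of_normal h1 h2 h3 h4 hk) p P hPD hP hn hu hnab)

end CfsgLib.LocalEven.BenderSplit.NonLinear
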