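import Cfsg.Agent.Lib.LocalEven.BenderSplit.NonLinear.Basic
import Cfsg.Agent.Lib.LocalEven.BenderSplit.Singular.Kernel
import Cfsg.Agent.Lib.LocalEven.BenderSplit.GlueFree
import Mathlib.GroupTheory.GroupAction.MultipleTransitivity

/-!
# The non-linear case: the glue step

If the inverted elements form a commutative subgroup `J` normal in the two-point stabiliser and some
nontrivial element of `J` is a commutator with every singular element, the glue lemma makes the
action on the involutions at the point doubly transitive, or its suborbits odd; both are impossible.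
-/

set_option autoImplicit false
set_option linter.style.haveILetI false

namespace CfsgLib.LocalEven.BenderSplit.NonLinear

open Subgroup MulAction CfsgLib.Involution.Dihedral CfsgLib.Involution
  CfsgLib.LocalEven.BenderTransitive CfsgLib.LocalEven.SwapInjective CfsgLib.LocalEven.StrongCore

universe u

variable {G : Type u} [Group G] [Finite G] {H : Subgroup G} {a b : G ⧸ H} {u x : G}

/-- The commutators with a fixed-point-free element exhaust a finite commutative subgroup. -/
theorem exists_commutator_eq {J : Subgroup G} (hcomm : ∀ f ∈ J, ∀ g ∈ J, Commute f g) {z : G}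
    (hz : ∀ f ∈ J, z * f * z⁻¹ ∈ J) (hfree : Singular.fixedIn J z = ⊥) {k : G} (hk : k ∈ J) :
    ∃ f ∈ J, z * f * z⁻¹ * f⁻¹ = k := by
  let φ : J → J := fun f => ⟨z * f * z⁻¹ * (f : G)⁻¹, mul_mem (hz f f.2) (inv_mem f.2)⟩
  have hinj : Function.Injective φ := by
    intro f g e
    have e' : z * f * z⁻¹ * (f : G)⁻¹ = z * g * z⁻¹ * (g : G)⁻¹ := congrArg Subtype.val e
    have h1 : z * ((g : G)⁻¹ * f) = (g : G)⁻¹ * f * z := by
      calc z * ((g : G)⁻¹ * f) = (z * g * z⁻¹)⁻¹ * (z * f * z⁻¹ * (f : G)⁻¹) * f * z := by group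
        _ = (g : G)⁻¹ * f * z := by rw [e']; group
    have h2 : (g : G)⁻¹ * f ∈ Singular.fixedIn J z :=
      Singular.mem_fixedIn.2 ⟨mul_mem (inv_mem g.2) f.2, h1⟩
    rw [hfree, mem_bot] at h2
    exact Subtype.ext (inv_mul_eq_one.1 h2).symm
  obtain ⟨f, hf⟩ := (Finite.injective_iff_surjective.1 hinj) ⟨k, hk⟩
  exact ⟨f, f.2, congrArg Subtype.val hf⟩

namespace Ctx

variable (c : Ctx H a b u x)

include c

/-- The action of the subgroup generated by the involutions at `a` on them is not doubly transitive. -/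
theorem not_two_pretransitive (h2 : IsMultiplyPretransitive (invClosure a) (InvAt a) 2) : False := by
  obtain ⟨v, w, hv, hva, hw, hwa, hvw, hne⟩ := exists_four c.hmin.min.se c.hmin.min.comm a
  obtain ⟨s, t, hs, hsa, ht, hta, hst⟩ := c.nc
  obtain ⟨g, hg1, hg2⟩ : ∃ g : invClosure a, g • (⟨v, hv, hva⟩ : InvAt a) = ⟨s, hs, hsa⟩ ∧
      g • (⟨w, hw, hwa⟩ : InvAt a) = ⟨t, ht, hta⟩ :=
    is_two_pretransitive_iff.1 h2 (fun e => hne (congrArg Subtype.val e))
      (fun e => hst (by rw [show s = t from congrArg Subtype.val e]))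
  refine hst ?_
  rw [show s = (g : G) * v * (g : G)⁻¹ from (congrArg Subtype.val hg1).symm,
    show t = (g : G) * w * (g : G)⁻¹ from (congrArg Subtype.val hg2).symm]
  exact commute_conj hvw

/-- The glue step. -/
theorem false_of_common {J : Subgroup G} (hJ : InvGroup a b u J)
    (hn : stab2 a b ≤ normalizer (J : Set G)) {v : G} (hv : orderOf v = 2) (hva : v • a = a)
    (hk : Singular.Common J (invClosure a ⊓ stab2 a b ⊓ centralizer ({v} : Set G))) : False := by
  classical
  set L := invClosure a with hL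
  set R := L ⊓ stab2 a b ⊓ centralizer ({v} : Set G) with hR
  obtain ⟨k, hkJ, hk1, hks⟩ := hk
  haveI := c.isPretransitive
  have hJL : J ≤ L := fun j hj => c.inverted_mem ((hJ.mem_iff j).1 hj)
  have hJD : J ≤ stab2 a b := fun j hj => ((hJ.mem_iff j).1 hj).1
  set t : InvAt a := ⟨v, hv, hva⟩ with ht
  set D' := (stab2 a b).subgroupOf L with hD'
  set J' := J.subgroupOf L with hJ'
  have hfixt : ∀ d : L, d • t = t ↔ Commute (d : G) v := fun d =>
    ⟨fun e => mul_inv_eq_iff_eq_mul.1 (congrArg Subtype.val e),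
      fun e => Subtype.ext (by
        show (d : G) * v * (d : G)⁻¹ = v
        rw [e.eq, mul_inv_cancel_right])⟩
  have hmemR : ∀ d : L, d ∈ D' → d • t = t → (d : G) ∈ R := fun d hd hdt =>
    mem_inf.2 ⟨mem_inf.2 ⟨d.2, mem_subgroupOf.1 hd⟩,
      mem_centralizer_singleton_iff.2 ((hfixt d).1 hdt).eq⟩
  have hD : Odd (Nat.card D') := c.odd.of_dvd_nat (by
    rw [← Subgroup.card_map_of_injective L.subtype_injective]
    exact Subgroup.card_dvd_of_le (by rintro _ ⟨d, hd, rfl⟩; exact hd))
  have hJ'D : J' ≤ D' := fun j hj => hJD hj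
  have hnorm : ∀ d ∈ D', ∀ j ∈ J', d * j * d⁻¹ ∈ J' := fun d hd j hj =>
    mem_subgroupOf.2 (BenderTransitive.conj_mem_of_mem_normalizer (hn hd) hj)
  have hcomm : ∀ p ∈ J', ∀ q ∈ J', p * q = q * p := fun p hp q hq =>
    Subtype.ext (hJ.comm _ hp _ hq).eq
  have htrans : ∀ i : InvAt a, ∃ n ∈ J', n • t = i := fun i => by
    obtain ⟨j, ⟨hj, e⟩, -⟩ := c.regular hJ hv hva i.2.1 i.2.2
    exact ⟨⟨j, hJL hj⟩, hj, Subtype.ext e⟩
  have hstab : ∀ n ∈ J', n • t = t → n = 1 := fun n hn' e => by
    obtain ⟨j, -, huniq⟩ := c.regular hJ hv hva hv hva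
    exact Subtype.ext ((huniq _ ⟨hn', congrArg Subtype.val e⟩).trans
      (huniq 1 ⟨one_mem J, by simp⟩).symm)
  have hti : ∀ g n : L, n ∈ J' → n ≠ 1 → g * n * g⁻¹ ∈ J' → g ∈ D' := by
    intro g n hn' hn1 hgn
    have hga : (g : G) • a = a := mem_stabilizer_iff.1 (invClosure_le a g.2)
    have h1 : ((g : G) * n * (g : G)⁻¹) • b = b := (mem_stab2.1 (hJD hgn)).2
    rw [mul_smul, mul_smul, smul_eq_iff_eq_inv_smul] at h1
    refine mem_subgroupOf.2 (mem_stab2.2 ⟨hga, ?_⟩)
    rcases c.inverted_fixed ((hJ.mem_iff _).1 hn') (fun e => hn1 (Subtype.ext e)) h1 with e | e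
    · exact absurd (by rw [← smul_inv_smul (g : G) b, e, hga]) c.ne.symm
    · conv_lhs => rw [← e]
      rw [smul_inv_smul]
  by_cases hsing : ∃ z, Singular.IsSingular J R z
  · -- some singular element: double transitivity
    obtain ⟨z, hz⟩ := hsing
    set k' : L := ⟨k, hJL hkJ⟩
    refine c.not_two_pretransitive (CfsgLib.BenderSplit.Glue.glue_free D' J' t hD hJ'D hnorm hcomm
      htrans hstab hti (zpowers k') (zpowers_le.2 hkJ) ?_ ?_ ?_)
    · intro d hd hdt hd1 φ hφ j hj
      obtain ⟨r, hr, hrd⟩ := Nat.exists_prime_and_dvd (mt orderOf_eq_one_iff.1 hd1)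
      set n := orderOf d / r
      set y := d ^ n with hy
      have hyo : orderOf (y : G) = r :=
        (orderOf_coe y).trans (orderOf_pow_orderOf_div (orderOf_pos d).ne' hrd)
      have hyR : (y : G) ∈ R := hmemR y (pow_mem hd n)
        (mem_stabilizer_iff.1 (pow_mem (mem_stabilizer_iff.2 hdt) n))
      have hyJ : ∀ f ∈ J, (y : G) * f * (y : G)⁻¹ ∈ J := fun f hf =>
        BenderTransitive.conj_mem_of_mem_normalizer (hn (mem_inf.1 (mem_inf.1 hyR).1).2) hf
      have hφy : ∀ p q : J', (q : L) = y * p * y⁻¹ → φ q = φ p := by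
        rw [hy]
        clear_value n
        clear hy hyo hyR hyJ y
        induction n with
        | zero =>
          intro p q e
          rw [show q = p from Subtype.ext (by simpa using e)]
        | succ n ih =>
          intro p q e
          have hp' : d * (p : L) * d⁻¹ ∈ J' := hnorm d hd p p.2
          rw [ih ⟨_, hp'⟩ q (by rw [e, pow_succ]; group)]
          exact hφ p ⟨_, hp'⟩ rfl
      obtain ⟨f, hf, hfk⟩ : ∃ f ∈ J, (y : G) * f * (y : G)⁻¹ * f⁻¹ = k := by
        rcases Singular.free_or_singular (F := J) hyR (hyo.symm ▸ hr) with hfr | hsi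
        · exact exists_commutator_eq hJ.comm hyJ hfr.fix hkJ
        · exact hks _ hsi
      have h1 : φ ⟨k', hkJ⟩ = 1 := by
        set p : J' := ⟨⟨f, hJL hf⟩, hf⟩
        set q : J' := ⟨y * p * y⁻¹, hyJ f hf⟩
        rw [show (⟨k', hkJ⟩ : J') = q * p⁻¹ from Subtype.ext (Subtype.ext hfk.symm), map_mul,
          map_inv, hφy p q rfl, mul_inv_cancel]
      obtain ⟨i, hi⟩ := mem_zpowers_iff.1 hj
      rw [show j = (⟨k', hkJ⟩ : J') ^ i from Subtype.ext (by rw [← hi]; simp), map_zpow, h1, one_zpow]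
    · intro i
      set N := (Subgroup.normalClosure ((zpowers k' : Subgroup L) : Set L)).map L.subtype with hN
      have hk'N : k ∈ N := ⟨k', subset_normalClosure (mem_zpowers k'), rfl⟩
      have hle : L ≤ N := c.minimal (map_subtype_le _) (fun g hg =>
        Coprime.mem_normalizer_of_conj_map_le fun y hy => by
          obtain ⟨y', hy', rfl⟩ := hy
          exact ⟨⟨g, hg⟩ * y' * ⟨g, hg⟩⁻¹, normalClosure_normal.conj_mem _ hy' _, rfl⟩)
        fun e => hk1 (mem_bot.1 (e ▸ hk'N))
      obtain ⟨g, hg⟩ := exists_smul_eq L t i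
      obtain ⟨g', hg', e⟩ := hle g.2
      exact ⟨g', hg', by rw [Subtype.ext e]; exact hg⟩
    · obtain ⟨⟨hzL, hzD⟩, hzv⟩ := And.intro (mem_inf.1 (mem_inf.1 hz.mem).1) (mem_inf.1 hz.mem).2
      obtain ⟨f, hf, hf1⟩ : ∃ f ∈ Singular.fixedIn J z, f ≠ 1 := by
        by_contra hno
        push Not at hno
        exact hz.fix ((Subgroup.eq_bot_iff_forall _).2 hno)
      obtain ⟨hfJ, hfz⟩ := Singular.mem_fixedIn.1 hf
      exact ⟨⟨z, hzL⟩, hzD, (hfixt _).2 (mem_centralizer_singleton_iff.1 hzv), fun e =>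
        hz.prime.ne_one (by rw [show z = 1 from congrArg Subtype.val e, orderOf_one]),
        ⟨f, hJL hfJ⟩, hfJ, fun e => hf1 (congrArg Subtype.val e), Subtype.ext hfz⟩
  · -- no singular element: fixed-point-free complement
    push Not at hsing
    have S : CfsgLib.BenderSplit.Glue.Setup D' J' ⊥ t :=
    { D_odd := hD
      C_le := bot_le
      N_le := hJ'D
      C_conj := fun d _ y hy => by rw [mem_bot] at hy ⊢; rw [hy]; group
      N_conj := hnorm
      ne := fun e => by
        have h1 : (⟨k, hJL hkJ⟩ : L) ∈ J' := hkJ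
        rw [← e, mem_bot] at h1
        exact hk1 (congrArg Subtype.val h1)
      trans := htrans
      stab := fun n hn' e => mem_bot.2 (hstab n hn' e)
      comm := fun p hp q hq => by rw [mem_bot, hcomm p hp q hq]; group
      ti := fun g n hn' hn1 hgn _ => hti g n hn' (fun e => hn1 (mem_bot.2 e)) hgn
      fus := fun g y hy _ => by rw [mem_bot] at hy ⊢; rw [hy]; group
      frob := fun d hd n hn' e => by
        rw [mem_bot] at e
        obtain ⟨j, hj, hje⟩ := htrans (d • t)
        have hrt : (j⁻¹ * d) • t = t := by rw [mul_smul, ← hje, inv_smul_smul]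
        have hrD : j⁻¹ * d ∈ D' := mul_mem (inv_mem (hJ'D hj)) hd
        by_cases hr1 : j⁻¹ * d = 1
        · exact Or.inl (inv_mul_eq_one.1 hr1 ▸ hj)
        refine Or.inr (mem_bot.2 ?_)
        obtain ⟨r, hr, hrd⟩ := Nat.exists_prime_and_dvd (mt orderOf_eq_one_iff.1 hr1)
        set y := (j⁻¹ * d) ^ (orderOf (j⁻¹ * d) / r) with hy
        have hyo : orderOf (y : G) = r :=
          (orderOf_coe y).trans (orderOf_pow_orderOf_div (orderOf_pos _).ne' hrd)
        have hyR : (y : G) ∈ R := hmemR y (pow_mem hrD _)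
          (mem_stabilizer_iff.1 (pow_mem (mem_stabilizer_iff.2 hrt) _))
        rcases Singular.free_or_singular (F := J) hyR (hyo.symm ▸ hr) with hfr | hsi
        swap
        · exact absurd hsi (hsing _)
        have hdn : Commute d n := mul_inv_eq_one.1 (by rw [← e]; group)
        have hyn : Commute y n :=
          (((show Commute j n from hcomm j hj n hn').inv_left).mul_left hdn).pow_left _
        have h1 : (n : G) ∈ Singular.fixedIn J (y : G) :=
          Singular.mem_fixedIn.2 ⟨hn', congrArg Subtype.val hyn.eq⟩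
        rw [hfr.fix, mem_bot] at h1
        exact Subtype.ext h1 }
    rcases CfsgLib.BenderSplit.Glue.glue_bot S rfl with h2 | horb
    · exact c.not_two_pretransitive h2
    -- `v` fixes a point of each suborbit, hence commutes with all involutions at `a`
    set v' : L := ⟨v, mem_invClosure hv hva⟩
    have hv' : v' ∈ stabilizer L t := mem_stabilizer_iff.2 ((hfixt v').2 (Commute.refl v))
    have hcentral : ∀ i : InvAt a, Commute v i.1 := by
      intro i
      haveI : Fact (Nat.Prime 2) := ⟨Nat.prime_two⟩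
      set w : stabilizer L t := ⟨v', hv'⟩
      have hw : IsPGroup 2 (zpowers w) := IsPGroup.of_card (n := 1) (by
        rw [Nat.card_zpowers, pow_one, ← orderOf_coe, ← orderOf_coe]
        exact hv)
      obtain ⟨⟨_, g, rfl⟩, hg⟩ := hw.nonempty_fixed_point_of_prime_not_dvd_card
        (orbit (stabilizer L t) i) (Nat.odd_iff.1 (horb i).2 |> fun h => by omega)
      have h1 : (v' : L) • (g : L) • i = (g : L) • i := congrArg Subtype.val (hg ⟨w, mem_zpowers w⟩)
      have hgv : Commute ((g : L) : G) v := (hfixt _).1 (mem_stabilizer_iff.1 g.2)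
      rw [smul_smul, show v' * (g : L) = (g : L) * v' from Subtype.ext hgv.eq.symm, mul_smul] at h1
      exact mul_inv_eq_iff_eq_mul.1 (congrArg Subtype.val (smul_left_cancel _ h1))
    obtain ⟨p, q, hp, hpa, hq, hqa, hne⟩ := c.nc
    obtain ⟨l, hl, el⟩ := c.exists_conj_mem hv hva hp hpa
    refine hne ?_
    obtain ⟨i, hi⟩ := MulAction.surjective (β := InvAt a) (⟨l, hl⟩ : L) ⟨q, hq, hqa⟩
    rw [← el, show q = l * i.1 * l⁻¹ from (congrArg Subtype.val hi).symm]
    exact commute_conj (hcentral i)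

end Ctx

end CfsgLib.LocalEven.BenderSplit.NonLinear
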