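import Cfsg.Agent.Lib.LocalEven.BenderSplit.NonLinear.Basic
import Cfsg.Agent.Lib.LocalEven.BenderSplit.OrbitLemma

/-!
# The inverted elements have no prime with cyclic roots

In the non-linear case the subgroup generated by the involutions at `a` is not doubly transitive on
them, so by Schur's method the commutative group of inverted elements has no prime with cyclic
group of roots.
-/

set_option autoImplicit false
set_option linter.style.haveILetI false

namespace CfsgLib.LocalEven.BenderSplit.NonLinear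

open Subgroup MulAction CfsgLib.Involution.Dihedral CfsgLib.Involution
  CfsgLib.LocalEven.BenderTransitive CfsgLib.LocalEven.SwapInjective CfsgLib.LocalEven.StrongCore

universe u

variable {G : Type u} [Group G] [Finite G] {H : Subgroup G} {a b : G ⧸ H} {u x : G}

/-- The involutions at `a` are not permuted doubly transitively. -/
theorem Ctx.false_of_two_transitive (c : Ctx H a b u x)
    (h2 : IsMultiplyPretransitive (invClosure a) (InvAt a) 2) : False := by
  obtain ⟨s, t, hs, hsa, ht, hta, hne⟩ := c.nc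
  obtain ⟨v, w, hv, hva, hw, hwa, hvw, hne'⟩ := exists_four c.hmin.min.se c.hmin.min.comm a
  have hne1 : (⟨v, hv, hva⟩ : InvAt a) ≠ ⟨w, hw, hwa⟩ := fun e => hne' (congrArg Subtype.val e)
  have hne2 : (⟨s, hs, hsa⟩ : InvAt a) ≠ ⟨t, ht, hta⟩ := fun e =>
    hne (by
    have he : s = t := congrArg Subtype.val e
    rw [he])
  obtain ⟨g, hgv, hgw⟩ := is_two_pretransitive_iff.1 h2 hne1 hne2
  have h1 : (g : G) * v * (g : G)⁻¹ = s := congrArg Subtype.val hgv
  have h3 : (g : G) * w * (g : G)⁻¹ = t := congrArg Subtype.val hgw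
  exact hne (h1 ▸ h3 ▸ hvw.map (MulAut.conj (g : G)).toMonoidHom)

/-- Schur's method. -/
theorem Ctx.false_of_cyclic (c : Ctx H a b u x) {J : Subgroup G} (hJ : InvGroup a b u J) {q : ℕ}
    (hq : q.Prime) (hqd : q ∣ mult H)
    (hroots : ∀ f ∈ J, ∀ g ∈ J, f ^ q = 1 → g ^ q = 1 → f ≠ 1 → g ∈ zpowers f) : False := by
  classical
  haveI := Fact.mk hq
  obtain ⟨s, -, hs, hsa, -⟩ := c.nc
  have hJL : J ≤ invClosure a := fun k hk => c.inverted_mem ((hJ.mem_iff k).1 hk)
  have hcard : Nat.card J = mult H :=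
    (Nat.card_congr (Equiv.subtypeEquivRight hJ.mem_iff)).trans c.card_inverted
  set J' := J.subgroupOf (invClosure a)
  have hcard' : Nat.card J' = mult H :=
    (Nat.card_congr (subgroupOfEquivOfLe hJL).toEquiv).trans hcard
  haveI := c.isPreprimitive hJ
  haveI : Fintype J' := Fintype.ofFinite _
  have hreg : Function.Bijective
      fun j : J' => (j : invClosure a) • (⟨s, hs, hsa⟩ : InvAt a) := by
    refine ⟨fun i j e => ?_, fun t => ?_⟩
    · obtain ⟨k, -, huniq⟩ := c.regular hJ hs hsa ((i : invClosure a) • (⟨s, hs, hsa⟩ : InvAt a)).2.1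
        ((i : invClosure a) • (⟨s, hs, hsa⟩ : InvAt a)).2.2
      have hi := huniq ((i : invClosure a) : G) ⟨mem_subgroupOf.1 i.2, rfl⟩
      have hj := huniq ((j : invClosure a) : G) ⟨mem_subgroupOf.1 j.2, (congrArg Subtype.val e).symm⟩
      exact Subtype.ext (Subtype.ext (hi.trans hj.symm))
    · obtain ⟨k, ⟨hk, hkt⟩, -⟩ := c.regular hJ hs hsa t.2.1 t.2.2
      exact ⟨⟨⟨k, hJL hk⟩, mem_subgroupOf.2 hk⟩, Subtype.ext hkt⟩
  refine c.false_of_two_transitive (CfsgLib.BenderSplit.OrbitLemma.isMultiplyPretransitive_two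
    J' (⟨s, hs, hsa⟩ : InvAt a) hreg (fun i j => Subtype.ext (Subtype.ext
      (hJ.comm _ (mem_subgroupOf.1 i.2) _ (mem_subgroupOf.1 j.2)).eq)) (q := q) ?_ ?_)
  · -- exactly `q` roots
    obtain ⟨f, hf⟩ := exists_prime_orderOf_dvd_card' (G := J') q (hcard'.symm ▸ hqd)
    have hf1 : ((f : invClosure a) : G) ≠ 1 := fun e => hq.ne_one (by
      rw [← hf, show f = 1 from Subtype.ext (Subtype.ext e), orderOf_one])
    have hfq : f ^ q = 1 := hf ▸ pow_orderOf_eq_one f
    have hiff : ∀ j : J', j ^ q = 1 ↔ j ∈ zpowers f := by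
      intro j
      constructor
      · intro hj
        obtain ⟨i, hi⟩ := mem_zpowers_iff.1 (hroots _ (mem_subgroupOf.1 f.2) _
          (mem_subgroupOf.1 j.2) (congrArg (fun y : J' => ((y : invClosure a) : G)) hfq)
          (congrArg (fun y : J' => ((y : invClosure a) : G)) hj) hf1)
        exact mem_zpowers_iff.2 ⟨i, Subtype.ext (Subtype.ext hi)⟩
      · intro hj
        exact orderOf_dvd_iff_pow_eq_one.1 ((orderOf_dvd_of_mem_zpowers hj).trans hf.dvd)
    rw [Nat.card_congr (Equiv.subtypeEquivRight hiff)]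
    exact (Nat.card_zpowers f).trans hf
  · by_contra h
    push Not at h
    obtain ⟨n, hn⟩ := IsPGroup.iff_card.1 (fun j : J' => ⟨1, by rw [pow_one, h j]⟩ : IsPGroup q J')
    exact c.not_prime_pow hq n (hcard'.symm.trans hn)

end CfsgLib.LocalEven.BenderSplit.NonLinear
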