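import Cfsg.Agent.Lib.LocalEven.BenderSplit.NonLinear.Basic

/-!
# Commutative normal subgroups of the two-point stabiliser

In the non-linear case a commutative normal subgroup of the two-point stabiliser centralises no
involution at the point; if the swap normalises it, the swap inverts it.
-/

set_option autoImplicit false
set_option linter.style.haveILetI false

namespace CfsgLib.LocalEven.BenderSplit.NonLinear

open Subgroup MulAction CfsgLib.Involution.Dihedral CfsgLib.Involution
  CfsgLib.LocalEven.BenderTransitive CfsgLib.LocalEven.SwapInjective CfsgLib.LocalEven.StrongCore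

universe u

variable {G : Type u} [Group G] {H : Subgroup G}

/-- The product of two distinct commuting involutions at `a` is one. -/
theorem mul_at {a : G ⧸ H} {s t : G} (hs : orderOf s = 2) (hsa : s • a = a) (ht : orderOf t = 2)
    (hta : t • a = a) (hne : s ≠ t) (hc : Commute s t) :
    orderOf (s * t) = 2 ∧ (s * t) • a = a :=
  ⟨StrongCore.commute_mul hs ht hne hc, by rw [mul_smul, hta, hsa]⟩

theorem conj_at {a : G ⧸ H} {g t : G} (hg : g • a = a) (ht : orderOf t = 2) (hta : t • a = a) :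
    orderOf (g * t * g⁻¹) = 2 ∧ (g * t * g⁻¹) • a = a :=
  ⟨(orderOf_conj g t).trans ht, by
    rw [mul_smul, mul_smul, inv_smul_eq_iff.2 hg.symm, hta, hg]⟩

theorem conj_smul_eq {a : G ⧸ H} {h g : G} (hh : h • a = a) (hg : g • a = a) :
    (h * g * h⁻¹) • a = a := by
  rw [mul_smul, mul_smul, inv_smul_eq_iff.2 hh.symm, hg, hh]

variable [Finite G] {a b : G ⧸ H} {u x : G}

/-- A commutative normal subgroup of the two-point stabiliser acts semiregularly on the involutions
at `a`. -/
theorem Ctx.not_commute_of_normal (c : Ctx H a b u x) {A : Subgroup G} (hA : A ≤ stab2 a b)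
    (hAc : ∀ y ∈ A, ∀ z ∈ A, Commute y z) (hAn : stab2 a b ≤ normalizer (A : Set G)) {k : G}
    (hk : k ∈ A) (hk1 : k ≠ 1) {t : G} (ht : orderOf t = 2) (hta : t • a = a) :
    ¬ Commute k t := by
  classical
  intro hkt
  set B : G → Subgroup G := fun s => A ⊓ centralizer ({s} : Set G) with hB
  have hmemB : ∀ {e s : G}, e ∈ B s ↔ e ∈ A ∧ Commute e s := fun {e s} => by
    rw [hB, mem_inf, mem_centralizer_singleton_iff]; rfl
  have hAa : ∀ {e : G}, e ∈ A → e • a = a := fun he => (mem_stab2.1 (hA he)).1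
  have hconjB : ∀ {d e s : G}, d ∈ normalizer (A : Set G) → e ∈ B s → d * e * d⁻¹ ∈ B (d * s * d⁻¹) :=
    fun {d e s} hd he => hmemB.2 ⟨BenderTransitive.conj_mem_of_mem_normalizer hd (hmemB.1 he).1,
      (hmemB.1 he).2.map (MulAut.conj d).toMonoidHom⟩
  -- the centralised parts all have the same order
  have hcard : ∀ {s s' : G}, orderOf s = 2 → s • a = a → orderOf s' = 2 → s' • a = a →
      Nat.card (B s) ≤ Nat.card (B s') := by
    intro s s' hs hsa hs' hsa'
    obtain ⟨d, hd, rfl⟩ := exists_conj_fixing c.hmin.min.se c.ne hs hsa hs' hsa'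
    refine Nat.card_le_card_of_injective
      (fun e : B s => (⟨d * e * d⁻¹, hconjB (hAn hd) e.2⟩ : B (d * s * d⁻¹))) fun e e' h => ?_
    exact Subtype.ext (mul_left_cancel (mul_right_cancel (congrArg Subtype.val h)))
  have heq : ∀ {s s' : G}, orderOf s = 2 → s • a = a → orderOf s' = 2 → s' • a = a →
      B s ≤ B s' → B s = B s' := fun hs hsa hs' hsa' h =>
    Subgroup.eq_of_le_of_card_ge h (hcard hs' hsa' hs hsa)
  -- none of them is trivial
  have hB1 : ∀ {s : G}, orderOf s = 2 → s • a = a → B s ≠ ⊥ := fun {s} hs hsa e => hk1 (mem_bot.1 (by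
    rw [← Subgroup.eq_bot_of_card_le (H := B t) ((hcard ht hta hs hsa).trans
      (by rw [e, Subgroup.card_bot]))]
    exact hmemB.2 ⟨hk, hkt⟩))
  -- involutions with the same part commute
  have hcomm : ∀ {s s' : G}, orderOf s = 2 → s • a = a → orderOf s' = 2 → s' • a = a →
      B s = B s' → Commute s s' := by
    intro s s' hs hsa hs' hsa' e
    by_cases hss : s = s'
    · rw [hss]
    obtain ⟨r, hr, hrd⟩ := Nat.exists_prime_and_dvd
      (fun h => hB1 hs hsa (Subgroup.eq_bot_of_card_eq _ h) : Nat.card (B s) ≠ 1)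
    haveI := Fact.mk hr
    obtain ⟨⟨z, hz⟩, hzo⟩ := exists_prime_orderOf_dvd_card' (G := B s) r hrd
    rw [Subgroup.orderOf_mk] at hzo
    obtain ⟨hzA, hzs⟩ := hmemB.1 hz
    have hzs' : Commute z s' := (hmemB.1 (e ▸ hz : z ∈ B s')).2
    have heven := even_centralizer_of_commute hs hzs.symm
    rcases one_or_two c.hmin c.ne hzo (hA hzA) heven with h1 | h2
    · exact absurd (h1.2 s s' hs hsa hzs.symm hs' hsa' hzs'.symm) hss
    obtain ⟨T, hT⟩ := exists_twoSplit c.hmin c.ne hzo (hA hzA) h2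
    exact hT.inv_central s (mem_centralizer_singleton_iff.2 hzs.symm.eq) hs hsa s'
      (hT.inv_mem s' (mem_centralizer_singleton_iff.2 hzs'.symm.eq) hs' hsa')
  -- commuting involutions have the same part
  have hle : ∀ {p q : G}, orderOf p = 2 → p • a = a → orderOf q = 2 → q • a = a →
      Commute p q → B p ≤ B q := by
    intro p q hp hpa hq hqa hpq d hd
    by_contra hdq
    obtain ⟨hdA, hdp⟩ := hmemB.1 hd
    have hne : p ≠ q := fun e => hdq (e ▸ hd)
    have hdn : d ∈ normalizer (A : Set G) := hAn (hA hdA)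
    have hfix : ∀ {s : G}, B (d * s * d⁻¹) = B s := fun {s} => by
      refine le_antisymm (fun e he => ?_) fun e he => ?_
      · have h := hconjB (inv_mem hdn) he
        rw [inv_inv, show d⁻¹ * (d * s * d⁻¹) * d = s by group,
          show d⁻¹ * e * d = e by rw [mul_assoc, (hAc e (hmemB.1 he).1 d hdA).eq,
            inv_mul_cancel_left]] at h
        exact h
      · have h := hconjB hdn he
        rwa [(hAc d hdA e (hmemB.1 he).1).eq, mul_inv_cancel_right] at h
    set q' := d * q * d⁻¹ with hq'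
    obtain ⟨hq2, hqa'⟩ := conj_at (hAa hdA) hq hqa
    have hqq' : q ≠ q' := fun e => hdq (hmemB.2 ⟨hdA, by
      show d * q = q * d
      conv_rhs => rw [show q = q' from e]
      rw [hq', inv_mul_cancel_right]⟩)
    have hc1 : Commute q q' := hcomm hq hqa hq2 hqa' hfix.symm
    obtain ⟨hw, hwa⟩ := mul_at hq hqa hq2 hqa' hqq' hc1
    have hqw : B q = B (q * q') := heq hq hqa hw hwa fun e he => hmemB.2 ⟨(hmemB.1 he).1,
      (hmemB.1 he).2.mul_right (hmemB.1 (hfix.symm ▸ he : e ∈ B q')).2⟩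
    obtain ⟨hz, hza⟩ := mul_at hp hpa hq hqa hne hpq
    have hz' : d * (p * q) * d⁻¹ = p * q' := by
      rw [show d * (p * q) * d⁻¹ = d * p * d⁻¹ * (d * q * d⁻¹) by group, hdp.eq,
        mul_inv_cancel_right]
    have hzw : B (p * q) = B (q * q') := heq hz hza hw hwa fun e he => hmemB.2 ⟨(hmemB.1 he).1, by
      have h1 := (hmemB.1 he).2.mul_right
        (hmemB.1 (hfix.symm ▸ he : e ∈ B (d * (p * q) * d⁻¹))).2
      rwa [hz', show p * q * (p * q') = q * q' by
        calc p * q * (p * q') = p * (q * p) * q' := by simp only [mul_assoc]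
          _ = p * (p * q) * q' := by rw [hpq.eq]
          _ = q * q' := by rw [← mul_assoc p p q, mul_self hp, one_mul]] at h1⟩
    have hqp : B q = B p := heq hq hqa hp hpa fun e he => hmemB.2 ⟨(hmemB.1 he).1, by
      have h1 := (hmemB.1 (hzw ▸ hqw ▸ he : e ∈ B (p * q))).2.mul_right (hmemB.1 he).2
      rwa [mul_assoc, mul_self hq, mul_one] at h1⟩
    exact hdq (hqp.symm ▸ hd)
  have hiff : ∀ {p q : G}, orderOf p = 2 → p • a = a → orderOf q = 2 → q • a = a →
      (Commute p q ↔ B p = B q) := fun hp hpa hq hqa =>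
    ⟨fun h => le_antisymm (hle hp hpa hq hqa h) (hle hq hqa hp hpa h.symm), hcomm hp hpa hq hqa⟩
  -- the subgroup preserving every class
  let K : Subgroup G :=
    { carrier := {g | g • a = a ∧
        ∀ s : G, orderOf s = 2 → s • a = a → B (g * s * g⁻¹) = B s}
      one_mem' := ⟨one_smul _ _, fun s _ _ => by rw [one_mul, inv_one, mul_one]⟩
      mul_mem' := fun {g g'} hg hg' => ⟨by rw [mul_smul, hg'.1, hg.1], fun s hs hsa => by
        obtain ⟨h1, h2⟩ := conj_at hg'.1 hs hsa
        rw [show g * g' * s * (g * g')⁻¹ = g * (g' * s * g'⁻¹) * g⁻¹ by group, hg.2 _ h1 h2,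
          hg'.2 s hs hsa]⟩
      inv_mem' := fun {g} hg => ⟨inv_smul_eq_iff.2 hg.1.symm, fun s hs hsa => by
        obtain ⟨h1, h2⟩ := conj_at (inv_smul_eq_iff.2 hg.1.symm) hs hsa
        rw [← hg.2 _ h1 h2, show g * (g⁻¹ * s * g⁻¹⁻¹) * g⁻¹ = s by group]⟩ }
  have hKn : stabilizer G a ≤ normalizer (K : Set G) := fun h hh => by
    refine Coprime.mem_normalizer_of_conj_map_le fun g hg => ?_
    refine ⟨(conj_smul_eq (mem_stabilizer_iff.1 hh) hg.1), fun s hs hsa => ?_⟩
    have hh' : h⁻¹ • a = a := inv_smul_eq_iff.2 (mem_stabilizer_iff.1 hh).symm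
    obtain ⟨h1, h2⟩ := conj_at hh' hs hsa
    obtain ⟨h3, h4⟩ := conj_at hg.1 h1 h2
    obtain ⟨h5, h6⟩ := conj_at (conj_smul_eq (mem_stabilizer_iff.1 hh) hg.1) hs hsa
    refine (hiff h5 h6 hs hsa).1 ?_
    have h7 := (hcomm h3 h4 h1 h2 (hg.2 _ h1 h2)).map (MulAut.conj h).toMonoidHom
    simp only [MulEquiv.coe_toMonoidHom, MulAut.conj_apply] at h7
    rw [show h * (h⁻¹ * s * h⁻¹⁻¹) * h⁻¹ = s by group, show h * (g * (h⁻¹ * s * h⁻¹⁻¹) * g⁻¹) * h⁻¹ =
      h * g * h⁻¹ * s * (h * g * h⁻¹)⁻¹ by group] at h7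
    exact h7
  have hAK : ∀ e ∈ A, e ∈ K := fun e he => ⟨hAa he, fun s hs hsa => by
    refine le_antisymm (fun f hf => ?_) fun f hf => ?_
    · have h := hconjB (inv_mem (hAn (hA he))) hf
      rw [inv_inv, show e⁻¹ * (e * s * e⁻¹) * e = s by group,
        show e⁻¹ * f * e = f by rw [mul_assoc, (hAc f (hmemB.1 hf).1 e he).eq,
          inv_mul_cancel_left]] at h
      exact h
    · have h := hconjB (hAn (hA he)) hf
      rwa [(hAc e he f (hmemB.1 hf).1).eq, mul_inv_cancel_right] at h⟩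
  have hLK : invClosure a ≤ K := c.le_of_normal (fun g hg => mem_stabilizer_iff.2 hg.1) hKn
    fun e => hk1 (mem_bot.1 (e ▸ hAK k hk))
  -- two involutions that do not commute
  obtain ⟨v, y, hv, hva, hy, hya, hvy⟩ := c.nc
  obtain ⟨hy', hya'⟩ := conj_at hva hy hya
  obtain ⟨hv', hva'⟩ := conj_at hya hv hva
  have e1 := (hLK (mem_invClosure hv hva)).2 y hy hya
  have e2 := (hLK (mem_invClosure hy hya)).2 v hv hva
  have hy'y : Commute (v * y * v⁻¹) y := hcomm hy' hya' hy hya e1
  have hv'v : Commute (y * v * y⁻¹) v := hcomm hv' hva' hv hva e2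
  have hne : v ≠ y * v * y⁻¹ := fun e => hvy (by
    show v * y = y * v
    conv_lhs => rw [e]
    rw [inv_mul_cancel_right])
  have hne' : v * y * v⁻¹ ≠ y := fun e => hvy (mul_inv_eq_iff_eq_mul.1 e)
  obtain ⟨hw, hwa⟩ := mul_at hv hva hv' hva' hne hv'v.symm
  have hwy : v * (y * v * y⁻¹) = v * y * v⁻¹ * y := by
    rw [inv_eq hv, inv_eq hy]; group
  refine hvy (hcomm hv hva hy hya (((hiff hv hva hw hwa).1 ?_).trans
    ((hiff hw hwa hy hya).1 ?_)))
  · exact (Commute.refl v).mul_right hv'v.symm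
  · rw [hwy]
    exact hy'y.mul_left (Commute.refl y)

/-- The swap inverts a commutative normal subgroup of the two-point stabiliser that it normalises. -/
theorem Ctx.inverted_of_normal (c : Ctx H a b u x) {A : Subgroup G} (hA : A ≤ stab2 a b)
    (hAc : ∀ y ∈ A, ∀ z ∈ A, Commute y z) (hAn : stab2 a b ≤ normalizer (A : Set G))
    (huA : u ∈ normalizer (A : Set G)) {k : G} (hk : k ∈ A) : Inverted a b u k := by
  refine ⟨hA hk, ?_⟩
  have huk : u * k * u⁻¹ ∈ A := BenderTransitive.conj_mem_of_mem_normalizer huA hk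
  set e := k * (u * k * u⁻¹) with he
  suffices h : e = 1 from eq_inv_of_mul_eq_one_right h
  have heA : e ∈ A := mul_mem hk huk
  have hue : Commute u e := by
    show u * e = e * u
    conv_rhs => rw [he, (hAc k hk _ huk).eq]
    rw [he]
    calc u * (k * (u * k * u⁻¹)) = u * k * u⁻¹ * (u * u) * k * u⁻¹ := by group
      _ = u * k * u⁻¹ * k * u := by rw [mul_self c.hu, inv_eq c.hu, mul_one]
  by_contra he1
  obtain ⟨r, hr, hrd⟩ := Nat.exists_prime_and_dvd (mt orderOf_eq_one_iff.1 he1)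
  set z := e ^ (orderOf e / r)
  have hzo : orderOf z = r := orderOf_pow_orderOf_div (orderOf_pos e).ne' hrd
  obtain ⟨t, ht, hta, htz⟩ := c.exists_centralized (hA (pow_mem heA _)) (hzo.symm ▸ hr)
    (hue.pow_right _)
  exact c.not_commute_of_normal hA hAc hAn (pow_mem heA _)
    (fun h => hr.ne_one (by rw [← hzo, show z = 1 from h, orderOf_one])) ht hta htz.symm

end CfsgLib.LocalEven.BenderSplit.NonLinear
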