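import Cfsg.Agent.Lib.LocalEven.BenderSplit.NonLinear.FrobeniusData
import Cfsg.Agent.Lib.LocalEven.BenderSplit.NonLinear.FrobeniusGlue
import Cfsg.Agent.Lib.LocalEven.BenderSplit.NonLinear.Fitting
import Cfsg.Agent.Lib.LocalEven.BenderSplit.NonLinear.FittingPGroup
import Cfsg.Agent.Lib.LocalEven.BenderSplit.NonLinear.Semiregular
import Cfsg.Agent.Lib.LocalEven.BenderSplit.NonLinear.Schur

/-!
# The non-linear case is impossible

In a least configuration without splitting the involutions at a point commute: otherwise the elements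
of a two-point stabiliser inverted by a swap form an abelian group, regular on these involutions, and
the group they generate is doubly transitive on them.
-/

set_option autoImplicit false
set_option linter.style.haveILetI false

namespace CfsgLib.LocalEven.BenderSplit.NonLinear

open Subgroup MulAction CfsgLib.LocalEven.BenderTransitive CfsgLib.LocalEven.StrongCore

universe u

variable {G : Type u} [Group G] {H : Subgroup G} [Finite G] {a b : G ⧸ H}

/-- The inverted elements form a normal self-centralising or partly cyclic abelian group. -/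
theorem Ctx.exists_invGroup {u x : G} (c : Ctx H a b u x) : ∃ J, InvGroup a b u J ∧
    ((∃ q, q.Prime ∧ q ∣ mult H ∧
        ∀ f ∈ J, ∀ g ∈ J, f ^ q = 1 → g ^ q = 1 → f ≠ 1 → g ∈ zpowers f) ∨
      (stab2 a b ≤ normalizer (J : Set G) ∧
        ∀ d ∈ stab2 a b, (∀ k ∈ J, Commute d k) → d ∈ J)) :=
  have hinv : ∀ A : Subgroup G, A ≤ stab2 a b → (∀ x ∈ A, ∀ y ∈ A, Commute x y) →
      stab2 a b ≤ normalizer (A : Set G) → u ∈ normalizer (A : Set G) →
      ∀ k ∈ A, Inverted a b u k := fun _ hA hAc hAn huA _ hk =>
    c.inverted_of_normal hA hAc hAn huA hk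
  c.inverted_cases_of (inf_le_left.trans (stabilizer_le_normalizer a))
    (fun _ hp k => c.not_prime_pow hp k) (fun _ hz hz1 huz => c.exists_cyclic_inverted hz hz1 huz)
    (fun _ hk => c.inverted_mem_commutator hk) hinv
    (fun p _ P h1 h2 h3 h4 h5 => c.pgroup_nonabelian_of hinv p P h1 h2 h3 h4 h5)

/-- The configuration does not exist. -/
theorem Ctx.false {u x : G} (c : Ctx H a b u x) : False := by
  obtain ⟨J, hJ, hcases⟩ := c.exists_invGroup
  by_cases hcyc : ∃ q, q.Prime ∧ q ∣ mult H ∧
      ∀ f ∈ J, ∀ g ∈ J, f ^ q = 1 → g ^ q = 1 → f ≠ 1 → g ∈ zpowers f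
  · obtain ⟨q, hq, hqd, hroots⟩ := hcyc
    exact c.false_of_cyclic hJ hq hqd hroots
  · obtain ⟨hn, -⟩ := hcases.resolve_left hcyc
    obtain ⟨v, hv, hva, hvx⟩ := c.pure.one.1
    exact c.false_of_common hJ hn hv hva (c.singularData hJ hn
      (fun q hq hqd hall => hcyc ⟨q, hq, hqd, hall⟩) hv hva hvx).common

/-- In a least configuration without splitting the involutions at a point commute. -/
theorem false_of_not_commute (h : MinSplit H) (hab : a ≠ b) {s t : G} (hs : orderOf s = 2)
    (hsa : s • a = a) (ht : orderOf t = 2) (hta : t • a = a) (hne : ¬ Commute s t) : False := by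
  obtain ⟨u, x, c⟩ := exists_ctx h hab hs hsa ht hta hne (inf_ne_bot h hab hs hsa ht hta hne)
  exact c.false

end CfsgLib.LocalEven.BenderSplit.NonLinear
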