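import Cfsg.Agent.Lib.LocalEven.BenderSplit.NonLinear.Defs
import Cfsg.Agent.Lib.LocalEven.BenderSplit.Cyclic
import Cfsg.Agent.Lib.LocalEven.BenderSplit.Coset
import Cfsg.Agent.Lib.LocalEven.BenderSplit.Transfer
import Cfsg.Agent.Lib.LocalEven.StrongCore.Dbar
import Cfsg.Agent.Lib.CharDeep.PrimePowerClass
import Mathlib.GroupTheory.GroupAction.Primitive

/-!
# The non-linear case: the subgroup generated by the involutions at a point

It is transitive on these involutions, has no proper subgroup normal in it, and contains the elements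
inverted by the swap.
-/

set_option autoImplicit false
set_option linter.style.haveILetI false

namespace CfsgLib.LocalEven.BenderSplit.NonLinear

open Subgroup MulAction CfsgLib.Involution.Dihedral CfsgLib.Involution
  CfsgLib.LocalEven.BenderTransitive CfsgLib.LocalEven.SwapInjective CfsgLib.LocalEven.StrongCore
open scoped Pointwise commutatorElement

universe u

variable {G : Type u} [Group G] {H : Subgroup G} [Finite G]

theorem stabilizer_le_normalizer (a : G ⧸ H) :
    stabilizer G a ≤ normalizer (invClosure a : Set G) := fun g hg => by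
  refine normalizer_closure fun t ht => subset_closure ⟨(orderOf_conj g t).trans ht.1, ?_⟩
  rw [mul_smul, mul_smul, inv_smul_eq_iff.2 (mem_stabilizer_iff.1 hg).symm, ht.2,
    mem_stabilizer_iff.1 hg]

omit [Finite G] in
/-- A conjugate of a centralised element. -/
theorem commute_conj {g p q : G} (h : Commute p q) : Commute (g * p * g⁻¹) (g * q * g⁻¹) :=
  h.map (MulAut.conj g).toMonoidHom

variable {a b : G ⧸ H} {u x : G}

/-- Existence of the configuration. -/
theorem exists_ctx (h : MinSplit H) (hab : a ≠ b) {s t : G} (hs : orderOf s = 2) (hsa : s • a = a)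
    (ht : orderOf t = 2) (hta : t • a = a) (hne : ¬ Commute s t)
    (hL : invClosure a ⊓ stab2 a b ≠ ⊥) : ∃ u x : G, Ctx H a b u x := by
  have hL2 : twoGen (invClosure a) = invClosure a := le_antisymm (twoGen_le _) ((closure_le _).2
    fun g hg => mem_twoGen (k := 1) (mem_invClosure hg.1 hg.2)
      (by rw [pow_one, pow_two, mul_self hg.1]))
  obtain ⟨x, hx, hp⟩ := exists_pure_mem h hab (invClosure_le a)
    (inf_le_left.trans (stabilizer_le_normalizer a)) hL2 hL
  obtain ⟨u, hu, hua, hux, -⟩ := hp.exists_swap h hab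
  exact ⟨u, x, h, hab, hu, hua, hp, hx, hux, s, t, hs, hsa, ht, hta, hne⟩

omit [Finite G] in
/-- An element of a subgroup normalised by a point stabiliser moves to one fixing the base coset. -/
theorem conj_fixes_base {g n : G} (hn : n • (g : G ⧸ H) = (g : G ⧸ H)) : g⁻¹ * n * g ∈ H :=
  SE.fixes_mk_iff.1 hn

/-- A nontrivial normal subgroup of a point stabiliser contains an involution. -/
theorem exists_involution_of_normal (h : MinSplit H) {N : Subgroup G} (hNa : N ≤ stabilizer G a)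
    (hNn : stabilizer G a ≤ normalizer (N : Set G)) (hN : N ≠ ⊥) :
    ∃ t ∈ N, orderOf t = 2 := by
  by_contra hno
  push Not at hno
  induction a using QuotientGroup.induction_on with
  | H g =>
  set N' : Subgroup H := (N.comap (MulAut.conj g).toMonoidHom).subgroupOf H with hN'
  have hn : N'.Normal := ⟨fun k hk m => by
    show g * ((m : G) * k * (m : G)⁻¹) * g⁻¹ ∈ N
    have hm : g * (m : G) * g⁻¹ ∈ stabilizer G (g : G ⧸ H) := by
      rw [mem_stabilizer_iff, SE.fixes_mk_iff]
      simp [mul_assoc]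
    rw [show g * ((m : G) * k * (m : G)⁻¹) * g⁻¹ =
      g * m * g⁻¹ * (g * (k : G) * g⁻¹) * (g * m * g⁻¹)⁻¹ by group]
    exact BenderTransitive.conj_mem_of_mem_normalizer (hNn hm) hk⟩
  have hodd : Odd (Nat.card N') := Nat.not_even_iff_odd.1 fun he => by
    obtain ⟨t, ht, ht2⟩ := Basic.exists_involution_of_even _ he
    exact hno _ ht ((orderOf_conj g _).trans ((orderOf_coe t).trans ht2))
  have hbot : N' = ⊥ := eq_bot_iff.2 ((ZStar.le_oddCore hn hodd).trans h.min.oddCore_eq_bot.le)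
  refine hN ((Subgroup.eq_bot_iff_forall _).2 fun n hnN => ?_)
  have hmem : g⁻¹ * n * g ∈ H := conj_fixes_base (mem_stabilizer_iff.1 (hNa hnN))
  have h1 : (⟨_, hmem⟩ : H) ∈ N' := by
    show g * (g⁻¹ * n * g) * g⁻¹ ∈ N
    rwa [show g * (g⁻¹ * n * g) * g⁻¹ = n by group]
  rw [hbot, mem_bot] at h1
  have h2 : g⁻¹ * n * g = 1 := congrArg Subtype.val h1
  calc n = g * (g⁻¹ * n * g) * g⁻¹ := by group
    _ = 1 := by rw [h2, mul_one, mul_inv_cancel]

/-- It contains all involutions at the point. -/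
theorem le_of_normal (h : MinSplit H) (hab : a ≠ b) {N : Subgroup G} (hNa : N ≤ stabilizer G a)
    (hNn : stabilizer G a ≤ normalizer (N : Set G)) (hN : N ≠ ⊥) : invClosure a ≤ N := by
  obtain ⟨t, htN, ht⟩ := exists_involution_of_normal h hNa hNn hN
  refine (closure_le _).2 fun s hs => ?_
  obtain ⟨d, hd, e⟩ := exists_conj_fixing h.min.se hab ht (mem_stabilizer_iff.1 (hNa htN)) hs.1 hs.2
  rw [SetLike.mem_coe, ← e]
  exact BenderTransitive.conj_mem_of_mem_normalizer (hNn (mem_inf.1 hd).1) htN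

/-- If two involutions at `a` do not commute, only the identity of `G_a` centralises them all. -/
theorem eq_one_of_centralizes' (h : MinSplit H) (hab : a ≠ b)
    (hnc : ∃ s t : G, orderOf s = 2 ∧ s • a = a ∧ orderOf t = 2 ∧ t • a = a ∧ ¬ Commute s t) {g : G}
    (hg : g • a = a) (hall : ∀ t, orderOf t = 2 → t • a = a → Commute g t) : g = 1 := by
  set K := stabilizer G a ⊓ centralizer ({t : G | orderOf t = 2 ∧ t • a = a} : Set G)
  by_contra hg1
  have hgK : g ∈ K :=
    mem_inf.2 ⟨mem_stabilizer_iff.2 hg, mem_centralizer_iff.2 fun t ht => (hall t ht.1 ht.2).eq.symm⟩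
  have hKn : stabilizer G a ≤ normalizer (K : Set G) := by
    intro c hc
    refine Coprime.mem_normalizer_of_conj_map_le fun k hk => ?_
    obtain ⟨hka, hkc⟩ := mem_inf.1 hk
    refine mem_inf.2 ⟨mul_mem (mul_mem hc hka) (inv_mem hc), mem_centralizer_iff.2 fun t ht => ?_⟩
    have hc' : c⁻¹ • a = a := inv_smul_eq_iff.2 (mem_stabilizer_iff.1 hc).symm
    have h1 : Commute (c⁻¹ * t * c) k := mem_centralizer_iff.1 hkc _
      ⟨by rw [← ht.1]; simpa using orderOf_conj c⁻¹ t,
        by rw [mul_smul, mul_smul, mem_stabilizer_iff.1 hc, ht.2, hc']⟩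
    have h2 := commute_conj (g := c) h1
    rw [show c * (c⁻¹ * t * c) * c⁻¹ = t by group] at h2
    exact h2
  have hle := le_of_normal h hab (N := K) inf_le_left hKn
    fun e => hg1 (mem_bot.1 (e ▸ hgK))
  obtain ⟨s, t, hs, hsa, ht, hta, hne⟩ := hnc
  exact hne (mem_centralizer_iff.1 (mem_inf.1 (hle (mem_invClosure ht hta))).2 s ⟨hs, hsa⟩)

/-- The number of involutions in a class of `L` divides the number at the point. -/
theorem card_orbit_dvd (hH : Cfsg.IsStronglyEmbedded H) (hab : a ≠ b) (s : InvAt a) :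
    Nat.card (orbit (invClosure a) s) ∣ mult H := by
  classical
  letI act : MulAction (stabilizer G a) (InvAt a) :=
    { smul := fun g t => ⟨(g : G) * t.1 * (g : G)⁻¹, (orderOf_conj _ _).trans t.2.1, by
        have hg : (g : G) • a = a := g.2
        rw [mul_smul, mul_smul, inv_smul_eq_iff.2 hg.symm, t.2.2, hg]⟩
      one_smul := fun t => Subtype.ext (by
        show ((1 : stabilizer G a) : G) * t.1 * ((1 : stabilizer G a) : G)⁻¹ = t.1
        simp)
      mul_smul := fun g k t => Subtype.ext (by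
        show ((g * k : stabilizer G a) : G) * t.1 * ((g * k : stabilizer G a) : G)⁻¹ =
          (g : G) * ((k : G) * t.1 * (k : G)⁻¹) * (g : G)⁻¹
        simp [mul_assoc]) }
  haveI : IsPretransitive (stabilizer G a) (InvAt a) := ⟨fun p q => by
    obtain ⟨d, hd, e⟩ := exists_conj_fixing hH hab p.2.1 p.2.2 q.2.1 q.2.2
    exact ⟨⟨d, (mem_inf.1 hd).1⟩, Subtype.ext e⟩⟩
  set N := (invClosure a).subgroupOf (stabilizer G a)
  haveI : N.Normal := normal_subgroupOf_of_le_normalizer (stabilizer_le_normalizer a)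
  have h1 := (IsBlock.orbit_of_normal (N := N) s).ncard_dvd_card ⟨s, mem_orbit_self s⟩
  rw [card_involutions_fixing hH a] at h1
  convert h1 using 1
  rw [← Nat.card_coe_set_eq]
  congr 2
  ext t
  constructor
  · rintro ⟨l, rfl⟩
    exact ⟨⟨⟨l, invClosure_le a l.2⟩, mem_subgroupOf.2 l.2⟩, rfl⟩
  · rintro ⟨l, rfl⟩
    exact ⟨⟨_, mem_subgroupOf.1 l.2⟩, rfl⟩

/-- The subgroup generated by the involutions at `a` meets the two-point stabiliser. -/
theorem inf_ne_bot (h : MinSplit H) (hab : a ≠ b) {s t : G} (hs : orderOf s = 2) (hsa : s • a = a)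
    (ht : orderOf t = 2) (hta : t • a = a) (hne : ¬ Commute s t) :
    invClosure a ⊓ stab2 a b ≠ ⊥ := by
  classical
  intro hbot
  set L := invClosure a
  have h1 : Nat.card (orbit L (⟨s, hs, hsa⟩ : InvAt a)) ≠ 1 := by
    intro e
    haveI := (Nat.card_eq_one_iff_unique.1 e).1
    refine hne ?_
    have h2 : (⟨t, mem_invClosure ht hta⟩ : L) • (⟨s, hs, hsa⟩ : InvAt a) = ⟨s, hs, hsa⟩ :=
      congrArg Subtype.val (Subsingleton.elim
        (⟨_, mem_orbit _ _⟩ : orbit L (⟨s, hs, hsa⟩ : InvAt a)) ⟨_, mem_orbit_self _⟩)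
    exact (mul_inv_eq_iff_eq_mul.1 (congrArg Subtype.val h2)).symm
  obtain ⟨q, hq, hqd⟩ := Nat.exists_prime_and_dvd h1
  haveI := Fact.mk hq
  have hqm : q ∣ mult H := hqd.trans (card_orbit_dvd h.min.se hab _)
  have hqL : q ∣ Nat.card L := hqd.trans (by
    rw [Nat.card_coe_set_eq, ← index_stabilizer]
    exact index_dvd_card _)
  obtain ⟨g, hg⟩ := exists_prime_orderOf_dvd_card' (G := L) q hqL
  obtain ⟨P, hP, hPc⟩ : ∃ P : Subgroup G, P ≤ stab2 a b ∧
      Nat.card P = q ^ (Nat.card (stab2 a b)).factorization q :=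
    ⟨(default : Sylow q (stab2 a b)).1.map (stab2 a b).subtype, map_subtype_le _,
      by rw [Coprime.card_map_subtype, Sylow.card_eq_multiplicity]⟩
  obtain ⟨S, hS⟩ := Coprime.exists_sylow_map_eq (hP.trans inf_le_left)
    (card_sylow_stabilizer h.min hqm hab hP hPc)
  set g' : stabilizer G a := ⟨g, invClosure_le a g.2⟩
  have hgp : IsPGroup q (zpowers g') := IsPGroup.of_card (n := 1) (by
    rw [Nat.card_zpowers, pow_one, ← orderOf_coe]
    exact (orderOf_coe g).trans hg)
  obtain ⟨Q, hQ⟩ := hgp.exists_le_sylow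
  obtain ⟨c, hc⟩ := exists_smul_eq (stabilizer G a) Q S
  have h2 : (c : G) * g * (c : G)⁻¹ ∈ P := by
    rw [← hS, ← hc, Coprime.map_smul_sylow]
    exact ⟨g, ⟨g', hQ (mem_zpowers g'), rfl⟩, rfl⟩
  have h3 : (c : G) * g * (c : G)⁻¹ ∈ L ⊓ stab2 a b :=
    mem_inf.2 ⟨BenderTransitive.conj_mem_of_mem_normalizer (stabilizer_le_normalizer a c.2) g.2,
      hP h2⟩
  rw [hbot, mem_bot] at h3
  have h4 := (orderOf_conj (c : G) g).trans ((orderOf_coe g).trans hg)
  rw [h3, orderOf_one] at h4
  exact hq.ne_one h4.symm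

namespace Ctx

variable (c : Ctx H a b u x)

include c

theorem hub : u • b = a := swap_smul c.hu c.hua

theorem odd : Odd (Nat.card (stab2 a b)) := odd_stab2 c.hmin.min.se c.ne

theorem swap_normalizer : u ∈ normalizer (stab2 a b : Set G) := swap_mem_normalizer c.hu c.hua

theorem le_of_normal {N : Subgroup G} (hNa : N ≤ stabilizer G a)
    (hNn : stabilizer G a ≤ normalizer (N : Set G)) (hN : N ≠ ⊥) : invClosure a ≤ N :=
  NonLinear.le_of_normal c.hmin c.ne hNa hNn hN

theorem eq_one_of_centralizes {g : G} (hg : g • a = a)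
    (hall : ∀ t, orderOf t = 2 → t • a = a → Commute g t) : g = 1 :=
  eq_one_of_centralizes' c.hmin c.ne c.nc hg hall

/-- The subgroup generated by the involutions at `a` is transitive on them. -/
theorem exists_conj_mem {s t : G} (hs : orderOf s = 2) (hsa : s • a = a) (ht : orderOf t = 2)
    (hta : t • a = a) : ∃ l ∈ invClosure a, l * s * l⁻¹ = t := by
  classical
  set L := invClosure a
  haveI := Fact.mk c.pure.prime
  obtain ⟨v, hv, hva, hvx⟩ := c.pure.one.1
  set x' : L := ⟨x, c.mem⟩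
  have hxp : IsPGroup (orderOf x) (zpowers x') :=
    IsPGroup.of_card (n := 1) (by rw [Nat.card_zpowers, pow_one, ← orderOf_coe])
  let v' : InvAt a := ⟨v, hv, hva⟩
  have huniq : ∀ i : InvAt a, x' • i = i → i = v' := fun i hi => Subtype.ext
    (c.pure.one.2 _ _ i.2.1 i.2.2 (mul_inv_eq_iff_eq_mul.1 (congrArg Subtype.val hi)).symm hv hva hvx)
  have hmain : ∀ i : InvAt a, i ∈ orbit L v' := by
    intro i
    by_contra hi
    have h1 : Nat.card (orbit L v') ≡ 1 [MOD orderOf x] := by
      refine (hxp.card_modEq_card_fixedPoints (orbit L v')).trans ?_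
      have : Nat.card (fixedPoints (zpowers x') (orbit L v')) = 1 := by
        haveI : Subsingleton (fixedPoints (zpowers x') (orbit L v')) := ⟨fun p q => by
          have hp := huniq _ (congrArg Subtype.val (p.2 ⟨x', mem_zpowers x'⟩))
          have hq := huniq _ (congrArg Subtype.val (q.2 ⟨x', mem_zpowers x'⟩))
          exact Subtype.ext (Subtype.ext (hp.trans hq.symm))⟩
        haveI : Nonempty (fixedPoints (zpowers x') (orbit L v')) := by
          refine ⟨⟨⟨v', mem_orbit_self _⟩, fun g => Subtype.ext ?_⟩⟩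
          have hle : zpowers x' ≤ stabilizer L v' := zpowers_le.2 (mem_stabilizer_iff.2 (Subtype.ext
            (by show x * v * x⁻¹ = v
                rw [← hvx.eq, mul_inv_cancel_right])))
          exact mem_stabilizer_iff.1 (hle g.2)
        exact Nat.card_unique
      rw [this]
    have h2 : Nat.card (orbit L i) ≡ 0 [MOD orderOf x] := by
      refine (hxp.card_modEq_card_fixedPoints (orbit L i)).trans ?_
      haveI : IsEmpty (fixedPoints (zpowers x') (orbit L i)) := ⟨fun p => hi (by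
        have e := huniq _ (congrArg Subtype.val (p.2 ⟨x', mem_zpowers x'⟩))
        rw [← e, orbit_eq_iff.2 p.1.2]
        exact mem_orbit_self i)⟩
      rw [Nat.card_of_isEmpty]
    obtain ⟨d, hd, e⟩ := exists_conj_fixing c.hmin.min.se c.ne hv hva i.2.1 i.2.2
    have hda : d ∈ stabilizer G a := (mem_inf.1 hd).1
    have hdn := stabilizer_le_normalizer a hda
    have hd' : d⁻¹ • a = a := inv_smul_eq_iff.2 (mem_stabilizer_iff.1 hda).symm
    have h3 : Nat.card (orbit L v') = Nat.card (orbit L i) := by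
      let φ : InvAt a ≃ InvAt a :=
        { toFun := fun j => ⟨d * j.1 * d⁻¹, (orderOf_conj _ _).trans j.2.1, by
            rw [mul_smul, mul_smul, hd', j.2.2, mem_stabilizer_iff.1 hda]⟩
          invFun := fun j => ⟨d⁻¹ * j.1 * d, (by
              simpa using orderOf_conj d⁻¹ j.1 : orderOf (d⁻¹ * j.1 * d) = orderOf j.1).trans j.2.1,
            by rw [mul_smul, mul_smul, mem_stabilizer_iff.1 hda, j.2.2, hd']⟩
          left_inv := fun j => Subtype.ext (by
            show d⁻¹ * (d * j.1 * d⁻¹) * d = j.1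
            group)
          right_inv := fun j => Subtype.ext (by
            show d * (d⁻¹ * j.1 * d) * d⁻¹ = j.1
            group) }
      refine Nat.card_congr (φ.subtypeEquiv fun j => ?_)
      constructor
      · rintro ⟨l, rfl⟩
        refine ⟨⟨d * l * d⁻¹, BenderTransitive.conj_mem_of_mem_normalizer hdn l.2⟩, Subtype.ext ?_⟩
        show d * l * d⁻¹ * i.1 * (d * l * d⁻¹)⁻¹ = d * ((l : G) * v * (l : G)⁻¹) * d⁻¹
        rw [← e]; group
      · rintro ⟨l, hl⟩
        refine ⟨⟨d⁻¹ * l * d, BenderTransitive.conj_inv_mem_of_mem_normalizer hdn l.2⟩, Subtype.ext ?_⟩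
        have hl' : (l : G) * i.1 * (l : G)⁻¹ = d * j.1 * d⁻¹ := congrArg Subtype.val hl
        show d⁻¹ * l * d * v * (d⁻¹ * l * d)⁻¹ = j.1
        calc d⁻¹ * l * d * v * (d⁻¹ * l * d)⁻¹
            = d⁻¹ * ((l : G) * (d * v * d⁻¹) * (l : G)⁻¹) * d := by group
          _ = d⁻¹ * (d * j.1 * d⁻¹) * d := by rw [e, hl']
          _ = j.1 := by group
    rw [← h3] at h2
    have h4 := Nat.modEq_zero_iff_dvd.1 (h1.symm.trans h2)
    exact c.pure.prime.not_dvd_one h4
  obtain ⟨p, hp⟩ := hmain ⟨s, hs, hsa⟩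
  obtain ⟨q, hq⟩ := hmain ⟨t, ht, hta⟩
  refine ⟨(q * p⁻¹ : L), (q * p⁻¹).2, congrArg Subtype.val (?_ :
    (q * p⁻¹) • (⟨s, hs, hsa⟩ : InvAt a) = ⟨t, ht, hta⟩)⟩
  rw [mul_smul, inv_smul_eq_iff.2 hp.symm]
  exact hq

theorem isPretransitive : IsPretransitive (invClosure a) (InvAt a) := ⟨fun p q => by
  obtain ⟨l, hl, e⟩ := c.exists_conj_mem p.2.1 p.2.2 q.2.1 q.2.2
  exact ⟨⟨l, hl⟩, Subtype.ext e⟩⟩

/-- No proper nontrivial subgroup is normal in it. -/
theorem minimal {N : Subgroup G} (hNL : N ≤ invClosure a)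
    (hNn : invClosure a ≤ normalizer (N : Set G)) (hN : N ≠ ⊥) : invClosure a ≤ N := by
  by_cases hev : ∃ t ∈ N, orderOf t = 2
  · obtain ⟨t, htN, ht⟩ := hev
    refine (closure_le _).2 fun s hs => ?_
    obtain ⟨l, hl, e⟩ := c.exists_conj_mem ht (mem_stabilizer_iff.1 (invClosure_le a (hNL htN))) hs.1 hs.2
    rw [SetLike.mem_coe, ← e]
    exact BenderTransitive.conj_mem_of_mem_normalizer (hNn hl) htN
  exfalso
  set O := (Cfsg.oddCore (invClosure a)).map (invClosure a).subtype with hO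
  haveI : (Cfsg.oddCore (invClosure a)).Characteristic :=
    inferInstanceAs (Cfsg.pPrimeCore 2 (invClosure a)).Characteristic
  have hn : (N.subgroupOf (invClosure a)).Normal := normal_subgroupOf_of_le_normalizer hNn
  have hodd : Odd (Nat.card (N.subgroupOf (invClosure a))) := Nat.not_even_iff_odd.1 fun he => by
    obtain ⟨t, ht, ht2⟩ := Basic.exists_involution_of_even _ he
    exact hev ⟨t, mem_subgroupOf.1 ht, (orderOf_coe t).trans ht2⟩
  have hNO : N ≤ O := fun n hn' =>
    ⟨⟨n, hNL hn'⟩, ZStar.le_oddCore hn hodd (mem_subgroupOf.2 hn'), rfl⟩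
  have hle := c.le_of_normal (N := O) ((map_subtype_le _).trans (invClosure_le a))
    (fun g hg => Coprime.FixedPointFreeOnModule.mem_normalizer_map_of_char _
      (stabilizer_le_normalizer a hg)) fun e => hN (eq_bot_iff.2 (hNO.trans e.le))
  obtain ⟨s, -, hs, hsa, -⟩ := c.nc
  refine Nat.not_even_iff_odd.2 (Min.odd_oddCore_map (invClosure a)) ?_
  rw [even_iff_two_dvd, ← hs]
  exact Subgroup.orderOf_dvd_natCard _ (hle (mem_invClosure hs hsa))

/-- The number of involutions at a point is no prime power. -/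
theorem not_prime_pow {p : ℕ} (hp : p.Prime) (k : ℕ) : mult H ≠ p ^ k := by
  classical
  intro hm
  obtain ⟨s, t, hs, hsa, ht, hta, hne⟩ := c.nc
  set L := invClosure a with hL
  haveI := c.isPretransitive
  let v : L := ⟨s, mem_invClosure hs hsa⟩
  have hidx : (centralizer ({v} : Set L)).index = p ^ k := by
    rw [← hm, ← card_involutions_fixing c.hmin.min.se a]
    rw [show centralizer ({v} : Set L) = stabilizer L (⟨s, hs, hsa⟩ : InvAt a) by
      ext l
      rw [mem_centralizer_singleton_iff, mem_stabilizer_iff]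
      constructor
      · intro e
        refine Subtype.ext ?_
        show (l : G) * s * (l : G)⁻¹ = s
        rw [show (l : G) * s = s * l from congrArg Subtype.val e, mul_inv_cancel_right]
      · intro e
        exact Subtype.ext (mul_inv_eq_iff_eq_mul.1 (congrArg Subtype.val e))]
    exact index_stabilizer_of_transitive L _
  have hsol := CharDeep.PrimePowerClass.isSolvable_normalClosure v hp k hidx
  set M := normalClosure ({v} : Set L)
  have hnorm : ∀ K : Subgroup L, K.Normal → K ≠ ⊥ → K = ⊤ := fun K hK hK1 => by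
    refine eq_top_iff.2 fun l _ => ?_
    obtain ⟨k', hk', e⟩ := c.minimal (N := K.map L.subtype) (map_subtype_le _)
      (fun g hg => Coprime.mem_normalizer_of_conj_map_le fun y hy => by
        obtain ⟨k', hk', rfl⟩ := hy
        exact ⟨⟨g, hg⟩ * k' * ⟨g, hg⟩⁻¹, hK.conj_mem _ hk' _, rfl⟩)
      (fun e => hK1 ((Subgroup.map_eq_bot_iff_of_injective _ L.subtype_injective).1 e)) l.2
    rwa [← Subtype.ext e]
  have hM : M = ⊤ := hnorm M inferInstance fun e => by
    have hv : v ∈ M := subset_normalClosure (Set.mem_singleton v)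
    rw [e, mem_bot] at hv
    exact ne_one hs (congrArg Subtype.val hv : (v : G) = ((1 : L) : G))
  haveI : Group.IsSolvable L := Group.isSolvable_of_surjective (f := M.subtype)
    fun l => ⟨⟨l, hM ▸ mem_top l⟩, rfl⟩
  haveI : Nontrivial L := ⟨⟨v, 1, fun e => ne_one hs (congrArg Subtype.val e)⟩⟩
  have hcomm : commutator L = ⊥ := by_contra fun hne' =>
    (Group.IsSolvable.commutator_lt_top_of_nontrivial L).ne (hnorm _ inferInstance hne')
  refine hne ?_
  have h1 := (Subgroup.eq_bot_iff_forall _).1 hcomm _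
    (Subgroup.commutator_mem_commutator (mem_top v) (mem_top (⟨t, mem_invClosure ht hta⟩ : L)))
  exact congrArg Subtype.val (commutatorElement_eq_one_iff_mul_comm.1 h1)

theorem inverted_mem {k : G} (hk : Inverted a b u k) : k ∈ invClosure a :=
  (mem_inf.1 (mem_of_pure_mem c.hmin c.ne c.pure c.hu c.hua c.comm inf_le_right
    (mem_inf.2 ⟨c.mem, c.pure.mem⟩) hk.1 (mem_normalizer_inf'
      (stabilizer_le_normalizer a (mem_inf.1 hk.1).1) (le_normalizer hk.1)) hk.2)).1

theorem not_commute_inverted {k t : G} (hk : Inverted a b u k) (hk1 : k ≠ 1) (ht : orderOf t = 2) :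
    ¬ Commute k t := fun hc => Nat.not_even_iff_odd.2
  (StrongCore.odd_centralizer c.hmin.min c.ne c.hu c.hua hk.1 hk.2 hk1)
  (even_centralizer_of_commute ht hc.symm)

theorem eq_one_of_inverted_commute {k : G} (hk : Inverted a b u k) (huk : Commute u k) : k = 1 :=
  by_contra fun h1 => c.not_commute_inverted hk h1 c.hu huk.symm

/-- A nontrivial inverted element fixes only `a` and `b`. -/
theorem inverted_fixed {k : G} (hk : Inverted a b u k) (hk1 : k ≠ 1) {e : G ⧸ H} (he : k • e = e) :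
    e = a ∨ e = b := by
  obtain ⟨r, hr, hrd⟩ := Nat.exists_prime_and_dvd (mt orderOf_eq_one_iff.1 hk1)
  haveI := Fact.mk hr
  set z := k ^ (orderOf k / r)
  have ho : orderOf z = r := orderOf_pow_orderOf_div (orderOf_pos k).ne' hrd
  have hz : Inverted a b u z := ⟨pow_mem hk.1 _, by rw [← _root_.conj_pow, hk.2, inv_pow]⟩
  have hz1 : z ≠ 1 := fun e => hr.ne_one (by rw [← ho, e, orderOf_one])
  have hodd := StrongCore.odd_centralizer c.hmin.min c.ne c.hu c.hua hz.1 hz.2 hz1
  have hp : IsPGroup r (zpowers z) := isPGroup_zpowers_of_orderOf (k := 1) (by rw [ho, pow_one])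
  have hrm : r ∣ mult H := by
    have h1 := card_centralized_modEq c.hmin.min.se hp (mem_stab2.1 hz.1).1
    haveI : IsEmpty {t : G // orderOf t = 2 ∧ t ∈ centralizer ({z} : Set G) ∧ t • a = a} :=
      ⟨fun t => Nat.not_even_iff_odd.2 hodd
        (even_centralizer_of_commute t.2.1 (mem_centralizer_singleton_iff.1 t.2.2.1))⟩
    rw [Nat.card_of_isEmpty] at h1
    exact Nat.modEq_zero_iff_dvd.1 h1.symm
  exact (fixedSpec c.hmin hrm hp (fun e => hz1 (zpowers_eq_bot.1 e)) c.ne (zpowers_le.2 hz.1)).1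
    (by rwa [centralizer_zpowers_eq]) e
    (zpowers_le.2 (mem_stabilizer_iff.2 (mem_stabilizer_iff.1 (pow_mem (mem_stabilizer_iff.2 he) _))))

theorem card_inverted : Nat.card {k : G // Inverted a b u k} = mult H := by
  rw [mult, ← SE.card_swaps c.hmin.min.se c.ne]
  have hu2 : u * u = 1 := mul_self c.hu
  refine Nat.card_congr
    { toFun := fun k => ⟨u * k.1, orderOf_eq_two ?_ ?_, by
        rw [mul_smul, (mem_stab2.1 k.2.1).1, c.hua]⟩
      invFun := fun i => ⟨u * i.1, mem_stab2.2 ⟨by rw [mul_smul, i.2.2, c.hub],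
        by rw [mul_smul, swap_smul i.2.1 i.2.2, c.hua]⟩, ?_⟩
      left_inv := fun k => Subtype.ext (by show u * (u * k.1) = k.1; rw [← mul_assoc, hu2, one_mul])
      right_inv := fun i => Subtype.ext (by show u * (u * i.1) = i.1; rw [← mul_assoc, hu2, one_mul]) }
  · calc u * k.1 * (u * k.1) = u * k.1 * u⁻¹ * k.1 := by rw [inv_eq c.hu]; group
      _ = 1 := by rw [k.2.2, inv_mul_cancel]
  · intro e
    have hk : u = k.1⁻¹ := eq_inv_of_mul_eq_one_left e
    refine c.ne ?_
    rw [← c.hua, hk]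
    exact (inv_smul_eq_iff.2 (mem_stab2.1 k.2.1).1.symm).symm
  · rw [inv_eq c.hu, mul_inv_rev, inv_eq c.hu, inv_eq i.2.1, ← mul_assoc, hu2, one_mul]

/-- Inverted elements lie in the derived group of `L ⊓ G_{a,b}`. -/
theorem inverted_mem_commutator {k : G} (hk : Inverted a b u k) :
    k ∈ ⁅invClosure a ⊓ stab2 a b, invClosure a ⊓ stab2 a b⁆ := by
  classical
  set D₁ := invClosure a ⊓ stab2 a b with hD₁
  have hDn : stab2 a b ≤ normalizer (D₁ : Set G) := fun d hd =>
    mem_normalizer_inf' (stabilizer_le_normalizer a (mem_inf.1 hd).1) (le_normalizer hd)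
  have hJ : ∀ {j : G}, Inverted a b u j → j ∈ D₁ := fun hj => mem_inf.2 ⟨c.inverted_mem hj, hj.1⟩
  have huD : ∀ {g : G}, g ∈ D₁ → u * g * u⁻¹ ∈ D₁ := by
    intro g hg
    obtain ⟨v, hv, i, hi, hc, hinv, e⟩ := exists_decomp c.hu c.odd c.swap_normalizer (mem_inf.1 hg).2
    have hvD : v ∈ D₁ := by
      rw [show v = g * i⁻¹ by rw [e, mul_inv_cancel_right]]
      exact mul_mem hg (inv_mem (hJ ⟨hi, hinv⟩))
    rw [show u * g * u⁻¹ = u * v * u⁻¹ * (u * i * u⁻¹) by rw [e]; group, hinv, hc.eq,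
      mul_inv_cancel_right]
    exact mul_mem hvD (inv_mem (hJ ⟨hi, hinv⟩))
  let A := Abelianization D₁
  let of : D₁ →* A := Abelianization.of
  let f : D₁ →* A := MonoidHom.mk' (fun g => of g * (of ⟨u * g * u⁻¹, huD g.2⟩)⁻¹) fun g g' => by
    have e : (⟨u * (g * g' : D₁) * u⁻¹, huD (g * g').2⟩ : D₁) =
        ⟨u * g * u⁻¹, huD g.2⟩ * ⟨u * g' * u⁻¹, huD g'.2⟩ := Subtype.ext (by simp [mul_assoc])
    simp only [e, map_mul, mul_inv]
    exact mul_mul_mul_comm _ _ _ _
  have hf : f = 1 := by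
    by_contra hf
    obtain ⟨y, r, i, hr, ho, hy, hp⟩ := exists_pure_witness c.hmin c.ne (invClosure_le a)
      (inf_le_left.trans (stabilizer_le_normalizer a))
      (le_antisymm (twoGen_le _) ((closure_le _).2 fun g hg => mem_twoGen (k := 1)
        (mem_invClosure hg.1 hg.2) (by rw [pow_one, pow_two, mul_self hg.1]))) f hf
    haveI := Fact.mk hr
    have hrm : ¬ r ∣ mult H := by
      have h1 := hp.not_dvd c.hmin c.ne
      rwa [show orderOf ((y : G) ^ r ^ i) = r by
        rw [orderOf_pow' _ (pow_ne_zero _ hr.ne_zero), ho, Nat.gcd_eq_right (pow_dvd_pow r i.le_succ),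
          pow_succ, Nat.mul_div_cancel_left _ (pow_pos hr.pos i)]] at h1
    obtain ⟨P, hP, hPc, -, huP⟩ := exists_inv_sylow c.hu c.odd c.swap_normalizer r
    have hPV : ∀ g ∈ P, Commute g u := by
      have h1 := relIndex_sylow_swap c.hmin.min.se c.ne c.hu c.hua hP hPc huP
      rw [mpart, Nat.factorization_eq_zero_of_not_dvd hrm, pow_zero] at h1
      exact fun g hg => mem_centralizer_singleton_iff.1 (relIndex_eq_one.1 h1 hg)
    obtain ⟨S, hS⟩ := Coprime.exists_sylow_map_eq hP hPc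
    set y' : stab2 a b := ⟨y, (mem_inf.1 y.2).2⟩
    obtain ⟨Q, hQ⟩ := (IsPGroup.of_card (n := i + 1) (by
      rw [Nat.card_zpowers, ← orderOf_coe]; exact ho) : IsPGroup r (zpowers y')).exists_le_sylow
    obtain ⟨d, hd⟩ := exists_smul_eq (stab2 a b) Q S
    have hyP : (d : G) * y * (d : G)⁻¹ ∈ P := by
      rw [← hS, ← hd, Coprime.map_smul_sylow]
      exact ⟨y, ⟨y', hQ (mem_zpowers y'), rfl⟩, rfl⟩
    obtain ⟨v, hv, j, hj, hcv, hjinv, e⟩ := exists_decomp c.hu c.odd c.swap_normalizer d.2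
    -- `v⁻¹ (d y d⁻¹) v = j y j⁻¹` commutes with the swap
    have hw : Commute u (j * y * j⁻¹) := by
      rw [show j * (y : G) * j⁻¹ = v⁻¹ * ((d : G) * y * (d : G)⁻¹) * v by rw [e]; group]
      exact (hcv.inv_right.mul_right (hPV _ hyP).symm).mul_right hcv
    set j' : D₁ := ⟨j, hJ ⟨hj, hjinv⟩⟩
    refine hy ?_
    have h1 : f (j' * y * j'⁻¹) = 1 := by
      show of (j' * y * j'⁻¹) * (of _)⁻¹ = 1
      rw [show (⟨u * ((j' * y * j'⁻¹ : D₁) : G) * u⁻¹, huD (j' * y * j'⁻¹).2⟩ : D₁) = j' * y * j'⁻¹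
        from Subtype.ext (by
          show u * (j * y * j⁻¹) * u⁻¹ = j * y * j⁻¹
          rw [hw.eq, mul_inv_cancel_right]), mul_inv_cancel]
    rwa [map_mul, map_mul, map_inv, mul_comm (f j'), mul_assoc, mul_inv_cancel, mul_one] at h1
  have hk' : k ∈ D₁ := hJ hk
  have h1 : f ⟨k, hk'⟩ = 1 := by rw [hf]; rfl
  have h2 : of ⟨k, hk'⟩ * of ⟨k, hk'⟩ = 1 := by
    have : (⟨u * k * u⁻¹, huD hk'⟩ : D₁) = (⟨k, hk'⟩ : D₁)⁻¹ := Subtype.ext hk.2
    have h3 : of ⟨k, hk'⟩ * (of ⟨u * k * u⁻¹, huD hk'⟩)⁻¹ = 1 := h1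
    rwa [this, map_inv, inv_inv] at h3
  have h3 : of ⟨k, hk'⟩ = 1 := by
    obtain ⟨n, hn⟩ := (c.odd.of_dvd_nat (Subgroup.orderOf_dvd_natCard _ hk.1) : Odd (orderOf k))
    have h4 : of (⟨k, hk'⟩ ^ (2 * n + 1)) = 1 := by
      rw [show (⟨k, hk'⟩ : D₁) ^ (2 * n + 1) = 1 from Subtype.ext (by
        show k ^ (2 * n + 1) = 1
        rw [← hn, pow_orderOf_eq_one]), map_one]
    rwa [map_pow, pow_succ, pow_mul, pow_two, h2, one_pow, one_mul] at h4
  rw [← MonoidHom.mem_ker, Abelianization.ker_of] at h3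
  rw [← Subgroup.map_subtype_commutator]
  exact ⟨_, h3, rfl⟩

/-- An element of prime order commuting with the swap centralises an involution at `a`. -/
theorem exists_centralized {z : G} (hz : z ∈ stab2 a b) (hp : (orderOf z).Prime)
    (huz : Commute u z) : ∃ t : G, orderOf t = 2 ∧ t • a = a ∧ Commute t z := by
  haveI := Fact.mk hp
  exact BenderSplit.exists_centralized c.hmin c.ne rfl hz (even_centralizer_of_commute c.hu huz)
    (mem_stab2.1 hz).1

/-- The inverted elements commuting with a nontrivial element fixed by the swap lie in a cyclic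
group. -/
theorem exists_cyclic_inverted {z : G} (hz : z ∈ stab2 a b) (hz1 : z ≠ 1) (huz : Commute u z) :
    ∃ k₀ : G, ∀ k, Inverted a b u k → Commute k z → k ∈ zpowers k₀ := by
  obtain ⟨r, hr, hrd⟩ := Nat.exists_prime_and_dvd (mt orderOf_eq_one_iff.1 hz1)
  haveI := Fact.mk hr
  set w := z ^ (orderOf z / r)
  have ho : orderOf w = r := orderOf_pow_orderOf_div (orderOf_pos z).ne' hrd
  have hw : w ∈ stab2 a b := pow_mem hz _
  have huw : Commute u w := huz.pow_right _
  rcases one_or_two c.hmin c.ne ho hw (even_centralizer_of_commute c.hu huw) with h1 | h2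
  · exact ⟨1, fun k hk hkz => by
      rw [(⟨ho.symm ▸ hr, hw, h1⟩ : Pure w a b).eq_one_of_inverted c.hmin c.ne c.hu c.hua huw hk.1
        hk.2 (hkz.pow_right _)]
      exact one_mem _⟩
  · obtain ⟨k₀, d, hT⟩ := exists_twoData c.hmin c.ne ho hw h2 c.hu c.hua huw
    exact ⟨k₀, fun k hk hkz => hT.all k hk.1 (conj_normalizer_of_commute (hkz.pow_right _)) hk.2⟩

/-- The commutative group `J` is regular on the involutions at `a`. -/
theorem regular {J : Subgroup G} (hJ : InvGroup a b u J) {s : G} (hs : orderOf s = 2)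
    (hsa : s • a = a) {t : G} (ht : orderOf t = 2) (hta : t • a = a) :
    ∃! k, k ∈ J ∧ k * s * k⁻¹ = t := by
  classical
  have hca : ∀ k : J, ((k : G) * s * (k : G)⁻¹) • a = a := fun k => by
    have hk := (mem_stab2.1 ((hJ.mem_iff _).1 k.2).1).1
    rw [mul_smul, mul_smul, inv_smul_eq_iff.2 hk.symm, hsa, hk]
  let f : J → InvAt a := fun k => ⟨(k : G) * s * (k : G)⁻¹, (orderOf_conj _ _).trans hs, hca k⟩
  have hinj : Function.Injective f := fun k k' e => by
    have e' : (k : G) * s * (k : G)⁻¹ = (k' : G) * s * (k' : G)⁻¹ := congrArg Subtype.val e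
    by_contra hne
    refine c.not_commute_inverted ((hJ.mem_iff _).1 (mul_mem (inv_mem k'.2) k.2))
      (fun h1 => hne (Subtype.ext (inv_mul_eq_one.1 h1).symm)) hs (mul_inv_eq_iff_eq_mul.1 ?_)
    rw [mul_inv_rev, inv_inv]
    calc (k' : G)⁻¹ * k * s * ((k : G)⁻¹ * k') = (k' : G)⁻¹ * ((k : G) * s * (k : G)⁻¹) * k' := by
          group
      _ = (k' : G)⁻¹ * ((k' : G) * s * (k' : G)⁻¹) * k' := by rw [e']
      _ = s := by group
  have hcard : Nat.card J = Nat.card (InvAt a) := by
    rw [card_involutions_fixing c.hmin.min.se a, ← c.card_inverted]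
    exact Nat.card_congr (Equiv.subtypeEquivRight hJ.mem_iff)
  have hbij : Function.Bijective f :=
    (Nat.bijective_iff_injective_and_card f).2 ⟨hinj, hcard⟩
  obtain ⟨k, hk⟩ := hbij.2 ⟨t, ht, hta⟩
  exact ⟨k, ⟨k.2, congrArg Subtype.val hk⟩, fun k' hk' => congrArg Subtype.val
    (hinj ((Subtype.ext hk'.2 : f ⟨k', hk'.1⟩ = ⟨t, ht, hta⟩).trans hk.symm))⟩

/-- With a commutative regular subgroup the action on the involutions at `a` is primitive. -/
theorem isPreprimitive {J : Subgroup G} (hJ : InvGroup a b u J) :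
    IsPreprimitive (invClosure a) (InvAt a) := by
  classical
  haveI := c.isPretransitive
  set L := invClosure a with hL
  refine ⟨fun {B} hB => ?_⟩
  by_cases hsub : B.Subsingleton
  · exact Or.inl hsub
  right
  obtain ⟨p, hp, q, hq, hne⟩ := Set.not_subsingleton_iff.1 hsub
  obtain ⟨k, ⟨hkJ, hkq⟩, -⟩ := c.regular hJ p.2.1 p.2.2 q.2.1 q.2.2
  set k' : L := ⟨k, c.inverted_mem ((hJ.mem_iff k).1 hkJ)⟩
  have hk1 : k' ≠ 1 := fun e => hne (Subtype.ext (by
    have : k = 1 := congrArg Subtype.val e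
    rw [← hkq, this]; simp))
  have hkB : k' • B = B := hB.smul_eq_of_nonempty
    ⟨q, ⟨p, hp, Subtype.ext hkq⟩, hq⟩
  set K : Subgroup L := ⨅ g : L, stabilizer L (g • B) with hK
  have hKn : K.Normal := ⟨fun n hn g => by
    rw [hK, Subgroup.mem_iInf] at hn ⊢
    intro i
    rw [mem_stabilizer_iff, mul_smul, mul_smul, smul_smul g⁻¹ i, mem_stabilizer_iff.1 (hn (g⁻¹ * i)),
      smul_smul, mul_inv_cancel_left]⟩
  have hkK : k' ∈ K := by
    rw [hK, Subgroup.mem_iInf]
    intro g
    -- every block is a translate by an element of `J`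
    obtain ⟨j, ⟨hjJ, hjp⟩, -⟩ := c.regular hJ p.2.1 p.2.2 (g • p).2.1 (g • p).2.2
    set j' : L := ⟨j, c.inverted_mem ((hJ.mem_iff j).1 hjJ)⟩
    have hjg : g • B = j' • B := by
      by_contra hne'
      have hjp' : j' • p = g • p := Subtype.ext hjp
      exact Set.disjoint_left.1 (hB hne') (Set.smul_mem_smul_set hp)
        (hjp' ▸ Set.smul_mem_smul_set hp)
    rw [mem_stabilizer_iff, hjg, smul_smul, show k' * j' = j' * k' from Subtype.ext
      (hJ.comm k hkJ j hjJ).eq, mul_smul, hkB]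
  have htop : K = ⊤ := by
    refine eq_top_iff.2 fun l _ => ?_
    obtain ⟨m, hm, e⟩ := c.minimal (N := K.map L.subtype) (map_subtype_le _)
      (fun g hg => Coprime.mem_normalizer_of_conj_map_le fun y hy => by
        obtain ⟨m, hm, rfl⟩ := hy
        exact ⟨⟨g, hg⟩ * m * ⟨g, hg⟩⁻¹, hKn.conj_mem _ hm _, rfl⟩)
      (fun e => hk1 (mem_bot.1 ((Subgroup.map_eq_bot_iff_of_injective _ L.subtype_injective).1 e ▸
        hkK))) l.2
    rwa [← Subtype.ext e]
  refine Set.eq_univ_of_forall fun i => ?_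
  obtain ⟨l, rfl⟩ := exists_smul_eq L p i
  have h1 : l ∈ K := htop ▸ mem_top l
  rw [hK, Subgroup.mem_iInf] at h1
  have h2 := mem_stabilizer_iff.1 (h1 1)
  rw [one_smul] at h2
  rw [← h2]
  exact Set.smul_mem_smul_set hp

end Ctx

end CfsgLib.LocalEven.BenderSplit.NonLinear
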