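import Cfsg.Agent.Lib.LocalEven.BenderSplit.Pure

/-!
# The non-linear case: definitions

`Ctx`: a least counterexample in which two involutions at `a` do not commute, together with a swap
commuting with a pure element of the subgroup generated by the involutions at `a`.
-/

set_option autoImplicit false
set_option linter.style.haveILetI false

namespace CfsgLib.LocalEven.BenderSplit.NonLinear

open Subgroup MulAction CfsgLib.Involution.Dihedral CfsgLib.Involution
  CfsgLib.LocalEven.BenderTransitive CfsgLib.LocalEven.SwapInjective CfsgLib.LocalEven.StrongCore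

universe u

variable {G : Type u} [Group G] {H : Subgroup G}

/-- The subgroup generated by the involutions at `a`. -/
def invClosure (a : G ⧸ H) : Subgroup G := closure {t : G | orderOf t = 2 ∧ t • a = a}

/-- The involutions at `a`. -/
abbrev InvAt (a : G ⧸ H) : Type u := {t : G // orderOf t = 2 ∧ t • a = a}

theorem mem_invClosure {a : G ⧸ H} {t : G} (ht : orderOf t = 2) (hta : t • a = a) :
    t ∈ invClosure a := subset_closure ⟨ht, hta⟩

theorem invClosure_le (a : G ⧸ H) : invClosure a ≤ stabilizer G a :=
  (closure_le _).2 fun _ h => mem_stabilizer_iff.2 h.2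

/-- Conjugation on the involutions at `a`. -/
instance invAction (a : G ⧸ H) : MulAction (invClosure a) (InvAt a) where
  smul g t := ⟨(g : G) * t.1 * (g : G)⁻¹, (orderOf_conj _ _).trans t.2.1, by
    have hg : (g : G) • a = a := invClosure_le a g.2
    rw [mul_smul, mul_smul, inv_smul_eq_iff.2 hg.symm, t.2.2, hg]⟩
  one_smul t := Subtype.ext (by
    show ((1 : invClosure a) : G) * t.1 * ((1 : invClosure a) : G)⁻¹ = t.1
    simp)
  mul_smul g k t := Subtype.ext (by
    show ((g * k : invClosure a) : G) * t.1 * ((g * k : invClosure a) : G)⁻¹ =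
      (g : G) * ((k : G) * t.1 * (k : G)⁻¹) * (g : G)⁻¹
    simp [mul_assoc])

theorem invAction_coe {a : G ⧸ H} (g : invClosure a) (t : InvAt a) :
    ((g • t : InvAt a) : G) = (g : G) * t.1 * (g : G)⁻¹ := rfl

/-- An element of the two-point stabiliser inverted by `u`. -/
def Inverted (a b : G ⧸ H) (u k : G) : Prop := k ∈ stab2 a b ∧ u * k * u⁻¹ = k⁻¹

/-- The inverted elements form the commutative subgroup `J`. -/
structure InvGroup (a b : G ⧸ H) (u : G) (J : Subgroup G) : Prop where
  mem_iff : ∀ k : G, k ∈ J ↔ Inverted a b u k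
  comm : ∀ x ∈ J, ∀ y ∈ J, Commute x y

/-- The non-linear configuration. -/
structure Ctx [Finite G] (H : Subgroup G) (a b : G ⧸ H) (u x : G) : Prop where
  hmin : MinSplit H
  ne : a ≠ b
  hu : orderOf u = 2
  hua : u • a = b
  pure : Pure x a b
  mem : x ∈ invClosure a
  comm : Commute u x
  nc : ∃ s t : G, orderOf s = 2 ∧ s • a = a ∧ orderOf t = 2 ∧ t • a = a ∧ ¬ Commute s t

end CfsgLib.LocalEven.BenderSplit.NonLinear
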