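import Cfsg.Agent.Lib.LocalEven.BenderSplit.NonLinear.Basic
import Cfsg.Agent.Lib.LocalEven.BenderSplit.Singular.Main

/-!
# The non-linear case: the complement of a normal abelian `J`

The stabiliser of an involution in `L ⊓ G_{a,b}` acts on `J` as in `Singular.Data`.
-/

set_option autoImplicit false
set_option linter.style.haveILetI false

namespace CfsgLib.LocalEven.BenderSplit.NonLinear

open Subgroup MulAction CfsgLib.Involution.Dihedral CfsgLib.Involution
  CfsgLib.LocalEven.BenderTransitive CfsgLib.LocalEven.SwapInjective CfsgLib.LocalEven.StrongCore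
open CfsgLib.LocalEven.BenderSplit.Singular (fixedIn mem_fixedIn IsFree IsSingular)
open scoped commutatorElement

universe u

variable {G : Type u} [Group G] {H : Subgroup G} [Finite G] {a b : G ⧸ H} {u x : G}

namespace Ctx

variable (c : Ctx H a b u x) {J : Subgroup G} (hJ : InvGroup a b u J)

include c

/-- The group generated by the involutions at `a` meets the stabiliser in a subgroup normalised by
the latter. -/
theorem stab2_le_normalizer : stab2 a b ≤ normalizer (invClosure a ⊓ stab2 a b : Subgroup G) :=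
  fun _ hd => mem_normalizer_inf' (stabilizer_le_normalizer a (mem_inf.1 hd).1) (le_normalizer hd)

include hJ

theorem card_invGroup : Nat.card J = mult H := by
  rw [← c.card_inverted]
  exact Nat.card_congr (Equiv.subtypeEquivRight hJ.mem_iff)

/-- All swaps invert `J`. -/
theorem inverted_swap {u' : G} (hu' : orderOf u' = 2) (hua' : u' • a = b) {k : G} (hk : k ∈ J) :
    u' * k * u'⁻¹ = k⁻¹ := by
  set j := u * u' with hj
  have hjJ : j ∈ J := (hJ.mem_iff j).2 ⟨mem_stab2.2
    ⟨by rw [hj, mul_smul, hua', c.hub], by rw [hj, mul_smul, swap_smul hu' hua', c.hua]⟩, by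
    rw [hj, inv_eq c.hu, mul_inv_rev, inv_eq c.hu, inv_eq hu', ← mul_assoc, mul_self c.hu, one_mul]⟩
  rw [show u' = u * j by rw [hj, ← mul_assoc, mul_self c.hu, one_mul],
    show u * j * k * (u * j)⁻¹ = u * (j * k * j⁻¹) * u⁻¹ by group,
    (hJ.comm j hjJ k hk).eq, mul_inv_cancel_right]
  exact ((hJ.mem_iff k).1 hk).2

/-- Only elements of `J` are inverted by a swap. -/
theorem mem_of_swap {u' : G} (hu' : orderOf u' = 2) (hua' : u' • a = b) {k : G}
    (hk : k ∈ stab2 a b) (hinv : u' * k * u'⁻¹ = k⁻¹) : k ∈ J := by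
  classical
  set j := u * u' with hj
  have hjJ : j ∈ J := (hJ.mem_iff j).2 ⟨mem_stab2.2
    ⟨by rw [hj, mul_smul, hua', c.hub], by rw [hj, mul_smul, swap_smul hu' hua', c.hua]⟩, by
    rw [hj, inv_eq c.hu, mul_inv_rev, inv_eq c.hu, inv_eq hu', ← mul_assoc, mul_self c.hu, one_mul]⟩
  -- the elements inverted by `u'` are as many as those inverted by `u`
  have hu2 : u' * u' = 1 := mul_self hu'
  let f : J → {k : G // k ∈ stab2 a b ∧ u' * k * u'⁻¹ = k⁻¹} := fun k =>
    ⟨k, ((hJ.mem_iff _).1 k.2).1, c.inverted_swap hJ hu' hua' k.2⟩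
  have hcard : Nat.card {k : G // k ∈ stab2 a b ∧ u' * k * u'⁻¹ = k⁻¹} = mult H := by
    rw [mult, ← SE.card_swaps c.hmin.min.se c.ne]
    refine Nat.card_congr
      { toFun := fun k => ⟨u' * k.1, orderOf_eq_two ?_ ?_, by
          rw [mul_smul, (mem_stab2.1 k.2.1).1, hua']⟩
        invFun := fun i => ⟨u' * i.1, mem_stab2.2 ⟨by rw [mul_smul, i.2.2, swap_smul hu' hua'],
          by rw [mul_smul, swap_smul i.2.1 i.2.2, hua']⟩, ?_⟩
        left_inv := fun k => Subtype.ext (by show u' * (u' * k.1) = k.1; rw [← mul_assoc, hu2, one_mul])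
        right_inv := fun i => Subtype.ext (by show u' * (u' * i.1) = i.1; rw [← mul_assoc, hu2, one_mul]) }
    · calc u' * k.1 * (u' * k.1) = u' * k.1 * u'⁻¹ * k.1 := by simp [inv_eq hu', mul_assoc]
        _ = 1 := by rw [k.2.2, inv_mul_cancel]
    · intro e
      have hk' : u' = k.1⁻¹ := eq_inv_of_mul_eq_one_left e
      refine c.ne ?_
      rw [← hua', hk']
      exact (inv_smul_eq_iff.2 (mem_stab2.1 k.2.1).1.symm).symm
    · rw [inv_eq hu', mul_inv_rev, inv_eq hu', inv_eq i.2.1, ← mul_assoc, hu2, one_mul]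
  have hbij : Function.Bijective f := (Nat.bijective_iff_injective_and_card f).2
    ⟨fun p q e => Subtype.ext (congrArg Subtype.val e :), by rw [hcard, c.card_invGroup hJ]⟩
  obtain ⟨k', hk'⟩ := hbij.2 ⟨k, hk, hinv⟩
  have ek : (k' : G) = k := congrArg Subtype.val hk'
  rw [← ek]
  exact k'.2

/-- An element of prime order centralising an involution at `a` has a `Two` structure with fixed
subgroup in `J`, or is pure and fixed-point-free on `J`. -/
theorem fixed_cases {v : G} (hv : orderOf v = 2) (hva : v • a = a) {z : G} (hz : z ∈ stab2 a b)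
    (hzp : (orderOf z).Prime) (hzv : Commute v z) :
    (Pure z a b ∧ fixedIn J z = ⊥) ∨
      ∃ u' k₀ d, TwoData z a b u' k₀ d ∧ ¬ One z a ∧ k₀ ≠ 1 ∧ fixedIn J z = zpowers k₀ := by
  haveI := Fact.mk hzp
  have heven := even_centralizer_of_commute hv hzv
  obtain ⟨w, hw, hwb, hwz⟩ :=
    BenderSplit.exists_centralized c.hmin c.ne rfl hz heven (mem_stab2.1 hz).2
  obtain ⟨u', hu'C, hu', hua', -⟩ := exists_swap_mem c.hmin.min.se (N := centralizer ({z} : Set G))
    c.ne hv hva hw hwb (mem_centralizer_singleton_iff.2 hzv.eq)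
    (mem_centralizer_singleton_iff.2 hwz.eq)
  have huz : Commute u' z := mem_centralizer_singleton_iff.1 hu'C
  rcases one_or_two c.hmin c.ne rfl hz heven with h1 | h2
  · refine .inl ⟨⟨hzp, hz, h1⟩, (Subgroup.eq_bot_iff_forall _).2 fun k hk => ?_⟩
    obtain ⟨hkJ, hkz⟩ := mem_fixedIn.1 hk
    exact (⟨hzp, hz, h1⟩ : Pure z a b).eq_one_of_inverted c.hmin c.ne hu' hua' huz
      ((hJ.mem_iff k).1 hkJ).1 (c.inverted_swap hJ hu' hua' hkJ) hkz.symm
  · obtain ⟨k₀, d, hT⟩ := exists_twoData c.hmin c.ne rfl hz h2 hu' hua' huz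
    refine .inr ⟨u', k₀, d, hT, h2.not_one, fun e => ?_, ?_⟩
    · have := hT.order
      rw [e, orderOf_one] at this
      have : 2 ^ 2 ≤ 2 ^ d := Nat.pow_le_pow_right two_pos hT.two_le
      omega
    · refine le_antisymm (fun k hk => ?_) (zpowers_le.2 (mem_fixedIn.2
        ⟨c.mem_of_swap hJ hu' hua' hT.mem hT.inverted, hT.commute.eq.symm⟩))
      obtain ⟨hkJ, hkz⟩ := mem_fixedIn.1 hk
      exact hT.all k ((hJ.mem_iff k).1 hkJ).1 (conj_normalizer_of_commute hkz.symm)
        (c.inverted_swap hJ hu' hua' hkJ)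

/-- The complement of a normal `J` satisfies the hypotheses of `Singular`. -/
theorem singularData (hn : stab2 a b ≤ normalizer (J : Set G))
    (hnc : ∀ q : ℕ, q.Prime → q ∣ mult H →
      ¬ ∀ f ∈ J, ∀ g ∈ J, f ^ q = 1 → g ^ q = 1 → f ≠ 1 → g ∈ zpowers f)
    {v : G} (hv : orderOf v = 2) (hva : v • a = a) (hxv : Commute v x) :
    Singular.Data J (invClosure a ⊓ stab2 a b ⊓ centralizer ({v} : Set G)) := by
  classical
  set L := invClosure a
  set R := L ⊓ stab2 a b ⊓ centralizer ({v} : Set G) with hR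
  have hRD : ∀ {r : G}, r ∈ R → r ∈ stab2 a b := fun hr => (mem_inf.1 (mem_inf.1 hr).1).2
  have hRv : ∀ {r : G}, r ∈ R → Commute v r := fun hr =>
    (mem_centralizer_singleton_iff.1 (mem_inf.1 hr).2 : Commute _ v).symm
  have hJD₁ : J ≤ L ⊓ stab2 a b := fun k hk =>
    mem_inf.2 ⟨c.inverted_mem ((hJ.mem_iff k).1 hk), ((hJ.mem_iff k).1 hk).1⟩
  have hfree : ∀ z, IsFree J R z → Pure z a b := fun z hz => by
    rcases c.fixed_cases hJ hv hva (hRD hz.mem) hz.prime (hRv hz.mem) with h1 | ⟨_, k₀, _, -, -, hk₀, e⟩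
    · exact h1.1
    · exact absurd (zpowers_eq_bot.1 (e.symm.trans hz.fix)) hk₀
  have htwo : ∀ z, IsSingular J R z →
      ∃ u' k₀ d, TwoData z a b u' k₀ d ∧ ¬ One z a ∧ k₀ ≠ 1 ∧ fixedIn J z = zpowers k₀ := fun z hz =>
    (c.fixed_cases hJ hv hva (hRD hz.mem) hz.prime (hRv hz.mem)).resolve_left
      fun h1 => hz.fix h1.2
  -- the projection to `R`
  haveI : (J.subgroupOf (L ⊓ stab2 a b)).Normal :=
    normal_subgroupOf_of_le_normalizer (inf_le_right.trans hn)
  set π := QuotientGroup.mk' (J.subgroupOf (L ⊓ stab2 a b))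
  let ι : R →* (L ⊓ stab2 a b : Subgroup G) := Subgroup.inclusion inf_le_left
  have hinj : Function.Injective (π.comp ι) := by
    rw [← MonoidHom.ker_eq_bot_iff, Subgroup.eq_bot_iff_forall]
    intro r hr
    have hrJ : (r : G) ∈ J := mem_subgroupOf.1 ((QuotientGroup.eq_one_iff (ι r)).1 hr)
    by_contra h1
    exact c.not_commute_inverted ((hJ.mem_iff _).1 hrJ) (fun e => h1 (Subtype.ext e)) hv
      (hRv r.2).symm
  have hsurj : Function.Surjective (π.comp ι) := by
    intro y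
    obtain ⟨d, rfl⟩ := QuotientGroup.mk'_surjective _ y
    have hda : (d : G) • a = a := invClosure_le a (mem_inf.1 d.2).1
    have hda' : (d : G)⁻¹ • a = a := inv_smul_eq_iff.2 hda.symm
    obtain ⟨k, ⟨hkJ, hk⟩, -⟩ := c.regular hJ hv hva (t := (d : G) * v * (d : G)⁻¹)
      ((orderOf_conj _ _).trans hv) (by rw [mul_smul, mul_smul, hda', hva, hda])
    have hr : k⁻¹ * (d : G) ∈ R := mem_inf.2 ⟨mul_mem (inv_mem (hJD₁ hkJ)) d.2,
      mem_centralizer_singleton_iff.2 (mul_inv_eq_iff_eq_mul.1 (by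
        calc k⁻¹ * (d : G) * v * (k⁻¹ * (d : G))⁻¹ = k⁻¹ * ((d : G) * v * (d : G)⁻¹) * k := by group
          _ = k⁻¹ * (k * v * k⁻¹) * k := by rw [hk]
          _ = v := by group))⟩
    refine ⟨⟨_, hr⟩, QuotientGroup.eq.2 (mem_subgroupOf.2 ?_)⟩
    show (k⁻¹ * (d : G))⁻¹ * d ∈ J
    rw [show (k⁻¹ * (d : G))⁻¹ * d = (d : G)⁻¹ * k * d by group]
    exact BenderTransitive.conj_inv_mem_of_mem_normalizer (hn (mem_inf.1 d.2).2) hkJ
  let e := MulEquiv.ofBijective (π.comp ι) ⟨hinj, hsurj⟩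
  have hodd : Odd (Nat.card R) :=
    c.odd.of_dvd_nat (card_dvd_of_le fun _ hr => hRD hr)
  refine
    { norm := fun r hr => hn (hRD hr)
      comm := fun f hf g hg => (hJ.comm f hf g hg).eq
      oddF := c.odd.of_dvd_nat (card_dvd_of_le fun k hk => ((hJ.mem_iff k).1 hk).1)
      oddR := hodd
      faithful := ?_
      cyc := ?_
      noncyc := ?_
      other := ?_
      exists_free := ⟨x, ?_⟩
      free_coprime := ?_
      singular_mem := ?_
      powers := ?_
      card_fixed := ?_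
      card_of_free := ?_ }
  · intro y hy hall
    by_contra hy1
    -- an element centralising `J` and `v` centralises all involutions at `a`
    refine hy1 (c.eq_one_of_centralizes (mem_stab2.1 (hRD hy)).1 fun t ht hta => ?_)
    obtain ⟨k, ⟨hkJ, rfl⟩, -⟩ := c.regular hJ hv hva ht hta
    have hyk : Commute y k := hall k hkJ
    exact (hyk.mul_right (hRv hy).symm).mul_right hyk.inv_right
  · intro z hz hzp
    rcases c.fixed_cases hJ hv hva (hRD hz) hzp (hRv hz) with ⟨-, e'⟩ | ⟨_, k₀, _, -, -, -, e'⟩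
    · rw [e']; infer_instance
    · rw [e']; infer_instance
  · intro q hq hqd
    have h1 := hnc q hq (c.card_invGroup hJ ▸ hqd)
    push Not at h1
    obtain ⟨f, hf, g, hg, hfq, hgq, hf1, hgf⟩ := h1
    exact ⟨f, hf, g, hg, hfq, hgq, hf1, hgf⟩
  · intro s
    have hm := c.hmin.min
    by_contra hno
    push Not at hno
    obtain ⟨q, hq, hqd⟩ := Nat.exists_prime_and_dvd (one_lt_mult hm).ne'
    have hqs : q = s := by
      by_contra hne
      exact hno q hq hne (c.card_invGroup hJ ▸ hqd)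
    subst hqs
    refine c.not_prime_pow hq _ (Nat.eq_prime_pow_of_unique_prime_dvd (mult_pos hm.se).ne' fun {r} hr hrd => ?_)
    by_contra hne
    exact hno r hr hne (c.card_invGroup hJ ▸ hrd)
  · have hxR : x ∈ R := mem_inf.2 ⟨mem_inf.2 ⟨c.mem, c.pure.mem⟩,
      mem_centralizer_singleton_iff.2 hxv.eq.symm⟩
    refine ⟨hxR, c.pure.prime, ?_⟩
    rcases c.fixed_cases hJ hv hva c.pure.mem c.pure.prime hxv with h1 | ⟨_, _, _, -, h1, -⟩
    · exact h1.2
    · exact absurd c.pure.one h1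
  · intro z hz hd
    exact (hfree z hz).not_dvd c.hmin c.ne (c.card_invGroup hJ ▸ hd)
  · intro z hz
    obtain ⟨_, _, _, -, hone, -⟩ := htwo z hz
    haveI := Fact.mk hz.prime
    let f : (L ⊓ stab2 a b : Subgroup G) →* Abelianization R :=
      Abelianization.of.comp (e.symm.toMonoidHom.comp π)
    have h1 := map_eq_one_of_not_pure c.hmin c.ne (invClosure_le a)
      (inf_le_left.trans (stabilizer_le_normalizer a))
      (le_antisymm (twoGen_le _) ((closure_le _).2 fun g hg => mem_twoGen (k := 1)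
        (mem_invClosure hg.1 hg.2) (by rw [pow_one, pow_two, mul_self hg.1]))) f
      (r := orderOf z) 0 ⟨z, (mem_inf.1 hz.mem).1⟩ (by rw [zero_add, pow_one])
      (fun hp => hone (by simpa using hp.one))
    have h2 : e.symm (π ⟨z, (mem_inf.1 hz.mem).1⟩) = ⟨z, hz.mem⟩ := by
      rw [MulEquiv.symm_apply_eq]; rfl
    change Abelianization.of (e.symm (π ⟨z, (mem_inf.1 hz.mem).1⟩)) = 1 at h1
    rw [h2, ← MonoidHom.mem_ker, Abelianization.ker_of] at h1
    rw [← Subgroup.map_subtype_commutator]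
    exact ⟨_, h1, rfl⟩
  · intro z hz r hr hrz
    obtain ⟨_, k₀, d, hT, -, -, e'⟩ := htwo z hz
    obtain ⟨i, -, hi⟩ := hT.conj r (hRD hr) (conj_normalizer_of_commute hrz)
    refine ⟨i, fun k hk => ?_⟩
    rw [e'] at hk
    obtain ⟨n, rfl⟩ := mem_zpowers_iff.1 hk
    rw [← _root_.conj_zpow, hi, ← zpow_natCast, ← zpow_mul, mul_comm, zpow_mul, zpow_natCast]
  · intro z hz
    obtain ⟨_, k₀, d, hT, -, -, e'⟩ := htwo z hz
    exact ⟨d, by rw [e', Nat.card_zpowers, hT.order]⟩
  · intro z hz x' hx' hxz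
    obtain ⟨_, k₀, d, hT, -, -, e'⟩ := htwo z hz
    obtain ⟨i, -, hi⟩ := hT.conj x' (hRD hx'.mem) (conj_normalizer_of_commute hxz)
    have hd := eq_of_two_pow_fpf hx'.prime hT.two_le hT.order hi
      (by rw [pow_orderOf_eq_one]; exact Commute.one_left _) fun j hj hjx => ?_
    · rw [e', Nat.card_zpowers, hT.order, hd]
    · have hjJ : j ∈ J := (mem_inf.1 (e' ▸ hj : j ∈ fixedIn J z)).1
      exact mem_bot.1 (hx'.fix ▸ (mem_fixedIn.2 ⟨hjJ, hjx.eq.symm⟩ : j ∈ fixedIn J x'))

end Ctx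

end CfsgLib.LocalEven.BenderSplit.NonLinear
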